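import Groth.Agent.Ega3A.PicLocBase
import Mathlib.AlgebraicGeometry.Morphisms.Separated
import Mathlib.AlgebraicGeometry.Morphisms.Affine

/-!
# Definitions for the generic representability of the Picard functor (S4298)

* `IsAF X` : every finite set of points of `X` is contained in an affine open;
* `Good f` : the étale-sheafified Picard functor of `f : X ⟶ S` is represented by a separated scheme locally of finite
  type with the property `IsAF`;
* `GenGood f` : this holds over a nonempty open of `S`;
* `representedBy_baseChange`, `Good.baseChange`: stability under base change (along affine morphisms for `Good`).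
-/

set_option autoImplicit false
universe w u

open CategoryTheory CategoryTheory.Limits AlgebraicGeometry Opposite

namespace Groth.Agent.Pic13.H964.Defs

open Groth.Agent.Ega3A.PicSheaf Groth.Agent.Ega3A.PicLocBase Groth.Agent.Picfga.OverRep

/-- Every finite set of points lies in an affine open. -/
def IsAF (X : Scheme.{u}) : Prop :=
  ∀ F : Finset X, ∃ U : X.Opens, IsAffineOpen U ∧ ∀ x ∈ F, x ∈ U

/-- If `X ⟶ Y` is affine and `Y` is AF then `X` is AF. -/
lemma IsAF.of_isAffineHom {X Y : Scheme.{u}} (g : X ⟶ Y) [IsAffineHom g] (h : IsAF Y) : IsAF X := by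
  classical
  intro F
  obtain ⟨U, hU, hF⟩ := h (F.image g)
  exact ⟨g ⁻¹ᵁ U, hU.preimage g, fun x hx => hF _ (Finset.mem_image_of_mem _ hx)⟩

/-- The étale-sheafified Picard functor of `f` is representable by a separated scheme locally of finite type over the
base, all of whose finite subsets are contained in affine opens. -/
def Good {X S : Scheme.{u}} (f : X ⟶ S) : Prop :=
  ∃ P : Over S, PicRel.RepresentedBy f P ∧ IsSeparated P.hom ∧ LocallyOfFiniteType P.hom ∧ IsAF P.left

/-- `Good` over a nonempty open of the base. -/
def GenGood {X S : Scheme.{u}} (f : X ⟶ S) : Prop :=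
  ∃ V : S.Opens, (V : Set S).Nonempty ∧ Good (pullback.snd f V.ι)

/-- Base change of a representing scheme. -/
theorem representedBy_baseChange {X S S' : Scheme.{u}} (f : X ⟶ S) (a : S' ⟶ S) {P : Over S}
    (h : PicRel.RepresentedBy f P) :
    PicRel.RepresentedBy (pullback.snd f a) ((Over.pullback a).obj P) := by
  obtain ⟨E⟩ := exists_picSh f
  obtain ⟨ξ, hξ⟩ := universal_of_representedBy h E
  let adj := Over.mapPullbackAdj a
  refine representedBy_of_universal (restrict a E)
    (E.G.map (adj.counit.app P).op ξ) ?_
  intro T x
  obtain ⟨g, hg, hg'⟩ := hξ ((Over.map a).obj T) x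
  refine ⟨(adj.homEquiv T P) g, ?_, ?_⟩
  · have e : (Over.map a).map ((adj.homEquiv T P) g) ≫ adj.counit.app P = g :=
      (adj.homEquiv_counit (g := (adj.homEquiv T P) g)).symm.trans ((adj.homEquiv T P).symm_apply_apply g)
    have e1 := map_comp_apply (G := E.G) ((Over.map a).map ((adj.homEquiv T P) g)) (adj.counit.app P) ξ
    exact e1.symm.trans ((map_eq_of_eq e ξ).trans hg)
  · intro g' hg''
    have e1 := map_comp_apply (G := E.G) ((Over.map a).map g') (adj.counit.app P) ξ
    have e2 := hg' _ (e1.trans hg'')
    have e3 : (adj.homEquiv T P).symm g' = g := (adj.homEquiv_counit (g := g')).trans e2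
    rw [← e3, Equiv.apply_symm_apply]

/-- `Good` is stable under affine base change. -/
theorem Good.baseChange {X S S' : Scheme.{u}} {f : X ⟶ S} (h : Good f) (a : S' ⟶ S) [IsAffineHom a] :
    Good (pullback.snd f a) := by
  obtain ⟨P, hP, h1, h2, h3⟩ := h
  refine ⟨(Over.pullback a).obj P, representedBy_baseChange f a hP, ?_, ?_, ?_⟩
  · exact (inferInstance : IsSeparated (pullback.snd P.hom a))
  · exact (inferInstance : LocallyOfFiniteType (pullback.snd P.hom a))
  · have : IsAffineHom (pullback.fst P.hom a) := MorphismProperty.pullback_fst _ _ inferInstance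
    exact h3.of_isAffineHom (pullback.fst P.hom a)

end Groth.Agent.Pic13.H964.Defs
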