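import Groth.Agent.Pic13.H955.FinDesc
import Groth.Agent.Ega3A.PicSheaf

/-!
# Sheaf condition for finite locally free covers, from étale-local existence and injectivity
-/

set_option autoImplicit false
universe w u

open CategoryTheory CategoryTheory.Limits AlgebraicGeometry Opposite

namespace Groth.Agent.Pic13.H964.FlfSheaf

open Groth.Agent.Picfga.OverRep (map_comp_apply map_eq_of_eq)
open Groth.Agent.Ega3A.PicEtSh Groth.Agent.Ega3A.PicDiv Groth.Agent.Pic13.H955.FinDesc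

variable {S : Scheme.{u}}

lemma isPullback_left {R T₁ T₂ T : Over S} {a : R ⟶ T₁} {b : R ⟶ T₂} {c : T₁ ⟶ T} {e : T₂ ⟶ T}
    (H : IsPullback a b c e) : IsPullback a.left b.left c.left e.left :=
  H.map (Over.forget S)

lemma isFinLocFree_fst {T T' V : Over S} (g : T' ⟶ T) (hg : Mor2.IsFinLocFree g.left) (j : V ⟶ T) :
    Mor2.IsFinLocFree (pullback.fst j g).left := by
  have H := isPullback_left (IsPullback.of_hasPullback j g)
  obtain ⟨h1, h2, h3⟩ := hg
  exact ⟨MorphismProperty.of_isPullback H.flip h1, MorphismProperty.of_isPullback H.flip h2,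
    MorphismProperty.of_isPullback H.flip h3⟩

lemma surjective_fst {T T' V : Over S} (g : T' ⟶ T) (hg : Surjective g.left) (j : V ⟶ T) :
    Surjective (pullback.fst j g).left :=
  MorphismProperty.of_isPullback (isPullback_left (IsPullback.of_hasPullback j g)).flip hg

lemma etale_snd {T T' V : Over S} (g : T' ⟶ T) (j : V ⟶ T) [Etale j.left] :
    Etale (pullback.snd j g).left :=
  MorphismProperty.of_isPullback (isPullback_left (IsPullback.of_hasPullback j g)) ‹_›

/-- The pulled back étale covering. -/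
noncomputable def pullCov {T T' : Over S} (𝒰 : ECov T) (g : T' ⟶ T) : ECov T' where
  ι := 𝒰.ι
  V i := pullback (𝒰.j i) g
  j i := pullback.snd (𝒰.j i) g
  isEtale i := etale_snd g (𝒰.j i)
  covers t := by
    obtain ⟨i, v, hv⟩ := 𝒰.covers (g.left t)
    have H := isPullback_left (IsPullback.of_hasPullback (𝒰.j i) g)
    obtain ⟨x, hx1, hx2⟩ := Scheme.Pullback.exists_preimage_pullback (f := (𝒰.j i).left) (g := g.left) v t hv
    refine ⟨i, H.isoPullback.inv x, ?_⟩
    rw [← Scheme.Hom.comp_apply, H.isoPullback_inv_snd]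
    exact hx2

variable (G : (Over S)ᵒᵖ ⥤ Type w)

/-- Étale-local existence of a descent of `x`. -/
def LocEx {T T' : Over S} (g : T' ⟶ T) (x : G.obj (op T')) : Prop :=
  ∃ 𝒰 : ECov T, ∀ i, ∃ y : G.obj (op (𝒰.V i)), G.map (pullback.fst (𝒰.j i) g).op y =
    G.map (pullback.snd (𝒰.j i) g).op x

variable {G}

lemma comp_aux {T T' V₁ V₂ : Over S} (g : T' ⟶ T) (j₁ : V₁ ⟶ T) (j₂ : V₂ ⟶ V₁) (x : G.obj (op T'))
    (y : G.obj (op V₂)) (hy : G.map (pullback.fst j₂ (pullback.fst j₁ g)).op y =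
      G.map (pullback.snd j₂ (pullback.fst j₁ g)).op (G.map (pullback.snd j₁ g).op x)) :
    G.map (pullback.fst (j₂ ≫ j₁) g).op y = G.map (pullback.snd (j₂ ≫ j₁) g).op x := by
  let k : pullback (j₂ ≫ j₁) g ⟶ pullback j₂ (pullback.fst j₁ g) :=
    pullback.lift (pullback.fst _ _) (pullback.lift (pullback.fst _ _ ≫ j₂)
      (pullback.snd _ _) (by
        rw [Category.assoc]
        exact pullback.condition)) (by rw [pullback.lift_fst])
  have h1 : k ≫ pullback.fst j₂ (pullback.fst j₁ g) = pullback.fst (j₂ ≫ j₁) g :=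
    pullback.lift_fst _ _ _
  have h2 : k ≫ pullback.snd j₂ (pullback.fst j₁ g) ≫ pullback.snd j₁ g =
      pullback.snd (j₂ ≫ j₁) g := by
    rw [pullback.lift_snd_assoc, pullback.lift_snd]
  refine (map_eq_of_eq h1.symm y).trans ?_
  refine Eq.trans ?_ (map_eq_of_eq h2 x)
  refine (map_comp_apply _ _ y).trans ?_
  refine Eq.trans ?_ (map_comp_apply _ _ x).symm
  refine congrArg _ ?_
  rw [hy]
  exact (map_comp_apply _ _ x).symm

lemma LocEx.of_cover {T T' : Over S} {g : T' ⟶ T} {x : G.obj (op T')} (𝒰 : ECov T)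
    (h : ∀ i, LocEx G (pullback.fst (𝒰.j i) g) (G.map (pullback.snd (𝒰.j i) g).op x)) :
    LocEx G g x := by
  choose 𝒱 h𝒱 using h
  refine ⟨LocEq.bind 𝒰 𝒱, fun p => ?_⟩
  obtain ⟨y, hy⟩ := h𝒱 p.1 p.2
  exact ⟨y, comp_aux g (𝒰.j p.1) ((𝒱 p.1).j p.2) x y hy⟩

/-- **The sheaf condition.** -/
theorem isFlfSheaf_of (hG : IsEtSheaf G)
    (hinj : ∀ {T T' : Over S} (g : T' ⟶ T), Mor2.IsFinLocFree g.left → Surjective g.left →
      ∀ y₁ y₂ : G.obj (op T), G.map g.op y₁ = G.map g.op y₂ → y₁ = y₂)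
    (hex : ∀ {T T' : Over S} (g : T' ⟶ T), Mor2.IsFinLocFree g.left → Surjective g.left →
      ∀ x : G.obj (op T'),
      (∀ (W : Over S) (a b : W ⟶ T'), a ≫ g = b ≫ g → G.map a.op x = G.map b.op x) → LocEx G g x) :
    IsFlfSheaf G := by
  intro T T' g hg hgs x hx
  obtain ⟨𝒰, h𝒰⟩ := hex g hg hgs x hx
  choose y hy using h𝒰
  have hcomp : ∀ (i k : 𝒰.ι) (W : Over S) (a : W ⟶ 𝒰.V i) (b : W ⟶ 𝒰.V k), a ≫ 𝒰.j i = b ≫ 𝒰.j k →
        G.map a.op (y i) = G.map b.op (y k) := by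
    intro i k W a b hab
    refine hinj (pullback.fst (a ≫ 𝒰.j i) g) (isFinLocFree_fst g hg _) (surjective_fst g hgs _) _ _ ?_
    have key : ∀ (i : 𝒰.ι) (a : W ⟶ 𝒰.V i) {P : Over S} (p : P ⟶ W) (q : P ⟶ T')
        (_ : (p ≫ a) ≫ 𝒰.j i = q ≫ g), G.map p.op (G.map a.op (y i)) = G.map q.op x := by
      intro i a P p q hpq
      have h1 : pullback.lift (p ≫ a) q hpq ≫ pullback.fst (𝒰.j i) g = p ≫ a := pullback.lift_fst _ _ _
      have h2 : pullback.lift (p ≫ a) q hpq ≫ pullback.snd (𝒰.j i) g = q := pullback.lift_snd _ _ _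
      refine (map_comp_apply p a (y i)).symm.trans ?_
      refine (map_eq_of_eq h1.symm (y i)).trans ?_
      refine (map_comp_apply _ _ (y i)).trans ?_
      rw [hy i]
      refine (map_comp_apply _ _ x).symm.trans ?_
      exact map_eq_of_eq h2 x
    rw [key i a (pullback.fst (a ≫ 𝒰.j i) g) (pullback.snd (a ≫ 𝒰.j i) g)
        (by rw [Category.assoc]; exact pullback.condition),
      key k b (pullback.fst (a ≫ 𝒰.j i) g) (pullback.snd (a ≫ 𝒰.j i) g)
        (by rw [Category.assoc, ← hab]; exact pullback.condition)]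
  obtain ⟨t, ht, -⟩ := hG T 𝒰 y hcomp
  have h1 : G.map g.op t = x := by
    apply hG.ext_cover T' (pullCov 𝒰 g)
    intro i
    change G.map (pullback.snd (𝒰.j i) g).op _ = G.map (pullback.snd (𝒰.j i) g).op x
    rw [← hy i, ← ht i]
    refine (map_comp_apply _ _ t).symm.trans ?_
    refine Eq.trans ?_ (map_comp_apply _ _ t)
    exact map_eq_of_eq pullback.condition.symm t
  exact ⟨t, h1, fun t' ht' => hinj g hg hgs _ _ (ht'.trans h1.symm)⟩

end Groth.Agent.Pic13.H964.FlfSheaf
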