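import Groth.Agent.Pic13.H964.CechTriv
import Groth.Agent.Pic13.H964.FlfSheaf

/-!
# The étale-sheafified Picard functor is a sheaf for finite locally free covers

Conditional on the étale-local triviality of Čech cocycles of units (`Z1`, `Z2`) and on the refinement of étale
covers of finite covers (`F1a`, `F1b`).
-/

set_option autoImplicit false
universe w u

open CategoryTheory CategoryTheory.Limits AlgebraicGeometry Opposite

namespace Groth.Agent.Pic13.H964.Shf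

open Groth.Agent.Picfga.OverRep (map_comp_apply map_eq_of_eq)
open Groth.Agent.Ega3A.PicEtSh Groth.Agent.Ega3A.PicDiv Groth.Agent.Ega3A.PicSheaf
  Groth.Agent.Pic13.H955.FinDesc Groth.Agent.Grpsch.PicGrp Groth.Agent.Pic13.H964.FlfSheaf
  Groth.Agent.Pic13.H964.CechPic Groth.Agent.Picfga.LineFam Groth.Agent.Pic13.H547.SecSheaf
  Groth.Agent.Pic13.H602.FamDesc
open PicF (XT XTmap)

variable {X S : Scheme.{u}} (f : X ⟶ S)

/-- Sections over a finite cover come from classes étale-locally on the base. -/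
def F1a : Prop := ∀ (E : PicSh f) {T T' : Over S} (g : T' ⟶ T), IsFinite g.left →
  ∀ x : E.G.obj (op T'), ∃ 𝒰 : ECov T, ∀ i, ∃ c : Pic (XT f (pullback (𝒰.j i) g)),
    E.η c = E.G.map (pullback.snd (𝒰.j i) g).op x

/-- Locally equal classes on a finite cover are equal étale-locally on the base. -/
def F1b : Prop := ∀ {T T' : Over S} (g : T' ⟶ T), IsFinite g.left → ∀ c c' : Pic (XT f T'),
  LocEq f T' c c' → ∃ 𝒰 : ECov T, ∀ i, pu f (pullback.snd (𝒰.j i) g) c =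
    pu f (pullback.snd (𝒰.j i) g) c'

/-- Čech 1-cocycles of units are étale-locally trivial. -/
def Z1 : Prop := ∀ {T T' : Over S} (g : T' ⟶ T), Mor2.IsFinLocFree g.left → Surjective g.left →
  ∀ (z : ∀ {V : Over S} (a b : V ⟶ T'), a ≫ g = b ≫ g → Γ(XT f V, ⊤)ˣ),
  (∀ {V V' : Over S} (h : V' ⟶ V) (a b : V ⟶ T') (e : a ≫ g = b ≫ g),
    upu f h (z a b e) = z (h ≫ a) (h ≫ b) (by rw [Category.assoc, e, Category.assoc])) →
  (∀ {V : Over S} (a b c : V ⟶ T') (e : a ≫ g = b ≫ g) (e' : b ≫ g = c ≫ g),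
    z a b e * z b c e' = z a c (e.trans e')) →
  ∃ 𝒰 : ECov T, ∀ i, ∃ y : ∀ {V : Over S} (v : V ⟶ 𝒰.V i) (a : V ⟶ T'), v ≫ 𝒰.j i = a ≫ g →
    Γ(XT f V, ⊤)ˣ,
    (∀ {V V' : Over S} (h : V' ⟶ V) (v : V ⟶ 𝒰.V i) (a : V ⟶ T') (e : v ≫ 𝒰.j i = a ≫ g),
      upu f h (y v a e) = y (h ≫ v) (h ≫ a) (by rw [Category.assoc, e, Category.assoc])) ∧
    ∀ {V : Over S} (v : V ⟶ 𝒰.V i) (a b : V ⟶ T') (e : v ≫ 𝒰.j i = a ≫ g) (e' : v ≫ 𝒰.j i = b ≫ g),
      z a b (e.symm.trans e') = y v a e * (y v b e')⁻¹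

/-- Čech 2-cocycles of units are étale-locally trivial. -/
def Z2 : Prop := ∀ {T T' : Over S} (g : T' ⟶ T), Mor2.IsFinLocFree g.left → Surjective g.left →
  ∀ (z : ∀ {V : Over S} (a b c : V ⟶ T'), a ≫ g = b ≫ g → b ≫ g = c ≫ g → Γ(XT f V, ⊤)ˣ),
  (∀ {V V' : Over S} (h : V' ⟶ V) (a b c : V ⟶ T') (e : a ≫ g = b ≫ g) (e' : b ≫ g = c ≫ g),
    upu f h (z a b c e e') = z (h ≫ a) (h ≫ b) (h ≫ c) (by rw [Category.assoc, e, Category.assoc])
      (by rw [Category.assoc, e', Category.assoc])) →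
  (∀ {V : Over S} (a b c d : V ⟶ T') (e : a ≫ g = b ≫ g) (e' : b ≫ g = c ≫ g) (e'' : c ≫ g = d ≫ g),
    z b c d e' e'' * z a b d e (e'.trans e'') = z a c d (e.trans e') e'' * z a b c e e') →
  ∃ 𝒰 : ECov T, ∀ i, ∃ y : ∀ {V : Over S} (v : V ⟶ 𝒰.V i) (a b : V ⟶ T'), v ≫ 𝒰.j i = a ≫ g →
    v ≫ 𝒰.j i = b ≫ g → Γ(XT f V, ⊤)ˣ,
    (∀ {V V' : Over S} (h : V' ⟶ V) (v : V ⟶ 𝒰.V i) (a b : V ⟶ T') (e : v ≫ 𝒰.j i = a ≫ g)
      (e' : v ≫ 𝒰.j i = b ≫ g), upu f h (y v a b e e') = y (h ≫ v) (h ≫ a) (h ≫ b)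
        (by rw [Category.assoc, e, Category.assoc]) (by rw [Category.assoc, e', Category.assoc])) ∧
    ∀ {V : Over S} (v : V ⟶ 𝒰.V i) (a b c : V ⟶ T') (ea : v ≫ 𝒰.j i = a ≫ g)
      (eb : v ≫ 𝒰.j i = b ≫ g) (ec : v ≫ 𝒰.j i = c ≫ g),
      z a b c (ea.symm.trans eb) (eb.symm.trans ec) = y v b c eb ec * (y v a c ea ec)⁻¹ * y v a b ea eb

variable {f}

lemma pu_comp' {T T' T'' : Over S} {g : T' ⟶ T} {h : T'' ⟶ T'} {k : T'' ⟶ T} (e : h ≫ g = k)
    (c : Pic (XT f T)) : pu f h (pu f g c) = pu f k c := by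
  rw [← e, pu_comp]

lemma isFinite_comp_fst {T T' : Over S} (g : T' ⟶ T) (hg : IsFinite g.left) :
    IsFinite (pullback.fst g g ≫ g).left := by
  have H := FlfSheaf.isPullback_left (IsPullback.of_hasPullback g g)
  have h1 : IsFinite (pullback.fst g g).left := MorphismProperty.of_isPullback H.flip hg
  rw [Over.comp_left]
  infer_instance

/-- Families compute pullbacks of classes. -/
lemma pull_mk_of_fam {Y Y' : Scheme.{u}} {G : Y' ⟶ Y} {L : Y.Modules} {L' : Y'.Modules}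
    (hL : PicF.IsInvertible L) (hL' : PicF.IsInvertible L') (F : Fam G L L') :
    pull G (mk L hL) = mk L' hL' := by
  obtain ⟨ψ, -⟩ := Fam.exists_ofIso hL F
  rw [pull_mk]
  exact mk_congr ψ

lemma nonempty_fam {Y Y' : Scheme.{u}} {G : Y' ⟶ Y} {L : Y.Modules} {L' : Y'.Modules}
    (hL : PicF.IsInvertible L) (hL' : PicF.IsInvertible L') (h : pull G (mk L hL) = mk L' hL') :
    Nonempty (Fam G L L') := by
  rw [pull_mk, mk_eq_iff] at h
  obtain ⟨ψ⟩ := h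
  exact ⟨Fam.ofIso ψ⟩

lemma quasiCompact_of {T T' : Over S} {g : T' ⟶ T} (hg : Mor2.IsFinLocFree g.left) :
    QuasiCompact g.left := by
  have := hg.1
  infer_instance

/-- A class which becomes trivial on a finite locally free cover is étale-locally trivial. -/
theorem locEq_one_of_pull (hZ1 : Z1 f) {T T' : Over S} (g : T' ⟶ T) (hg : Mor2.IsFinLocFree g.left)
    (hgs : Surjective g.left) (c : Pic (XT f T)) (hc : pu f g c = 1) : LocEq f T c 1 := by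
  obtain ⟨M, hM, rfl⟩ := exists_mk c
  have hO : ∀ V : Over S, PicF.IsInvertible (Coh.structureModule (XT f V)) :=
    fun V => Fdesc.LocGen.isInvertible_structureModule
  obtain ⟨ε⟩ := nonempty_fam (G := XTmap f g) hM (hO T') hc
  obtain ⟨𝒰, h𝒰⟩ := hZ1 g hg hgs (fun a b e => z1 ε hM a b e) (fun h a b e => z1_nat ε hM h a b e)
    (fun a b c e e' => z1_coc ε hM a b c e e')
  refine ⟨𝒰, fun i => ?_⟩
  obtain ⟨y, hy1, hy2⟩ := h𝒰 i
  have hgi := isFinLocFree_fst g hg (𝒰.j i)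
  obtain ⟨φ⟩ := exists_triv ε hM (𝒰.j i) hgi.2.1 (surjective_fst g hgs _) (quasiCompact_of hgi) y hy1 hy2
  have h1 : pu f (𝒰.j i) (1 : Pic (XT f T)) = 1 := map_one _
  rw [h1]
  exact pull_mk_of_fam hM (hO _) φ

theorem locEx_of_eq (hZ2 : Z2 f) (E : PicSh f) {T T' : Over S} (g : T' ⟶ T)
    (hg : Mor2.IsFinLocFree g.left) (hgs : Surjective g.left) (c : Pic (XT f T'))
    (hc : pu f (pullback.fst g g) c = pu f (pullback.snd g g) c) : LocEx E.G g (E.η c) := by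
  obtain ⟨L, hL, rfl⟩ := exists_mk c
  have hP : IsPullback (pullback.fst g g) (pullback.snd g g) g g := IsPullback.of_hasPullback g g
  let N₀ := Desc.QD.PB (XTmap f (pullback.fst g g)) L
  let θ₁ : Fam (XTmap f (pullback.fst g g)) L N₀ := can _ L
  have hN₀ : PicF.IsInvertible N₀ := θ₁.isInvertible hL
  obtain ⟨θ₂⟩ : Nonempty (Fam (XTmap f (pullback.snd g g)) L N₀) := by
    refine nonempty_fam hL hN₀ ?_
    exact hc.symm.trans (pull_mk_of_fam hL hN₀ θ₁)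
  obtain ⟨𝒰, h𝒰⟩ := hZ2 g hg hgs (fun a b c e e' => z (θ₁ := θ₁) (θ₂ := θ₂) hP hL a b c e e')
    (fun h a b c e e' => z_nat hP hL h a b c e e')
    (fun a b c d e e' e'' => z_coc hP hL a b c d e e' e'')
  refine ⟨𝒰, fun i => ?_⟩
  obtain ⟨y, hy1, hy2⟩ := h𝒰 i
  have hgi := isFinLocFree_fst g hg (𝒰.j i)
  let Y : YSys f g (𝒰.j i) :=
    { y := y
      nat := by
        intro V V' h v a b e e' v' a' b' hv ha hb E E'
        subst hv ha hb
        exact hy1 h v a b e e' }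
  obtain ⟨M, hM, ⟨F⟩⟩ := exists_desc Y hP hL (θ₁ := θ₁) (θ₂ := θ₂) hy2 hgi.2.1 (surjective_fst g hgs _)
    (quasiCompact_of hgi)
  refine ⟨E.η (mk M hM), ?_⟩
  rw [← E.nat, ← E.nat]
  congr 1
  have hL' : PicF.IsInvertible (Desc.QD.PB (XTmap f (pullback.snd (𝒰.j i) g)) L) :=
    (can (XTmap f (pullback.snd (𝒰.j i) g)) L).isInvertible hL
  exact (pull_mk_of_fam hM hL' F).trans (pull_mk_of_fam hL hL' (can _ L)).symm

theorem inj_class (hF1b : F1b f) (hZ1 : Z1 f) (E : PicSh f) {T T' : Over S} (g : T' ⟶ T)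
    (hg : Mor2.IsFinLocFree g.left) (hgs : Surjective g.left) (c₁ c₂ : Pic (XT f T))
    (h : E.G.map g.op (E.η c₁) = E.G.map g.op (E.η c₂)) : E.η c₁ = E.η c₂ := by
  rw [← E.nat, ← E.nat, E.eq_iff] at h
  rw [E.eq_iff, ← LocEq.mul_inv_iff]
  rw [← LocEq.mul_inv_iff] at h
  have h1 : LocEq f T' (pu f g (c₁ * c₂⁻¹)) 1 := by
    rw [show pu f g (c₁ * c₂⁻¹) = pu f g c₁ * (pu f g c₂)⁻¹ from by
      simp [pu, map_mul, map_inv]]
    exact h
  obtain ⟨𝒰, h𝒰⟩ := hF1b g hg.1 _ _ h1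
  refine LocEq.of_cover 𝒰 (fun i => ?_)
  have h2 : pu f (𝒰.j i) (1 : Pic (XT f T)) = 1 := map_one _
  rw [h2]
  refine locEq_one_of_pull hZ1 (pullback.fst (𝒰.j i) g) (isFinLocFree_fst g hg _)
    (surjective_fst g hgs _) _ ?_
  rw [pu_comp' pullback.condition, ← pu_comp' rfl, h𝒰 i]
  exact map_one _

theorem inj (hF1b : F1b f) (hZ1 : Z1 f) (E : PicSh f) {T T' : Over S} (g : T' ⟶ T)
    (hg : Mor2.IsFinLocFree g.left) (hgs : Surjective g.left) (y₁ y₂ : E.G.obj (op T))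
    (h : E.G.map g.op y₁ = E.G.map g.op y₂) : y₁ = y₂ := by
  have hG : IsEtSheaf E.G := (isEtSheaf_iff _).mp E.sheaf
  -- restriction of the hypothesis
  have key : ∀ {T T' V : Over S} (g : T' ⟶ T) (j : V ⟶ T) (y₁ y₂ : E.G.obj (op T)),
      E.G.map g.op y₁ = E.G.map g.op y₂ →
      E.G.map (pullback.fst j g).op (E.G.map j.op y₁) = E.G.map (pullback.fst j g).op (E.G.map j.op y₂) := by
    intro T T' V g j y₁ y₂ h
    have h1 : ∀ y : E.G.obj (op T), E.G.map (pullback.fst j g).op (E.G.map j.op y) =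
        E.G.map (pullback.snd j g).op (E.G.map g.op y) := fun y => by
      rw [← map_comp_apply, ← map_comp_apply]
      exact map_eq_of_eq pullback.condition y
    rw [h1, h1, h]
  obtain ⟨𝒰, h𝒰⟩ := E.locSurj T y₁
  refine hG.ext_cover T 𝒰 _ _ (fun i => ?_)
  obtain ⟨c₁, hc₁⟩ := h𝒰 i
  obtain ⟨𝒱, h𝒱⟩ := E.locSurj (𝒰.V i) (E.G.map (𝒰.j i).op y₂)
  refine hG.ext_cover _ 𝒱 _ _ (fun k => ?_)
  obtain ⟨c₂, hc₂⟩ := h𝒱 k
  rw [← hc₂, ← hc₁, ← E.nat]
  refine inj_class hF1b hZ1 E (pullback.fst (𝒱.j k) (pullback.fst (𝒰.j i) g))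
    (isFinLocFree_fst _ (isFinLocFree_fst g hg _) _) (surjective_fst _ (surjective_fst g hgs _) _) _ _ ?_
  rw [hc₂, E.nat, hc₁]
  exact key _ _ _ _ (key _ _ _ _ h)

theorem ex_of_locEq (hF1b : F1b f) (hZ2 : Z2 f) (E : PicSh f) {T T' : Over S} (g : T' ⟶ T)
    (hg : Mor2.IsFinLocFree g.left) (hgs : Surjective g.left) (c : Pic (XT f T'))
    (hc : LocEq f _ (pu f (pullback.fst g g) c) (pu f (pullback.snd g g) c)) :
    LocEx E.G g (E.η c) := by
  obtain ⟨𝒰, h𝒰⟩ := hF1b (pullback.fst g g ≫ g) (isFinite_comp_fst g hg.1) _ _ hc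
  refine LocEx.of_cover 𝒰 (fun i => ?_)
  rw [← E.nat]
  refine locEx_of_eq hZ2 E _ (isFinLocFree_fst g hg _) (surjective_fst g hgs _) _ ?_
  set w := pullback.fst (𝒰.j i) g
  set s := pullback.snd (𝒰.j i) g
  have hws : w ≫ 𝒰.j i = s ≫ g := pullback.condition
  have hq : pullback.fst w w ≫ w = pullback.snd w w ≫ w := pullback.condition
  let m : pullback w w ⟶ pullback g g := pullback.lift (pullback.fst w w ≫ s) (pullback.snd w w ≫ s)
    (by rw [Category.assoc, ← hws, ← Category.assoc, hq, Category.assoc, Category.assoc, hws])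
  let k : pullback w w ⟶ pullback (𝒰.j i) (pullback.fst g g ≫ g) :=
    pullback.lift (pullback.fst w w ≫ w) m (by
      rw [Category.assoc, hws, ← Category.assoc m, pullback.lift_fst, Category.assoc])
  have hk : k ≫ pullback.snd _ _ = m := pullback.lift_snd _ _ _
  have h1 : (k ≫ pullback.snd _ _) ≫ pullback.fst g g = pullback.fst w w ≫ s := by
    rw [hk]; exact pullback.lift_fst _ _ _
  have h2 : (k ≫ pullback.snd _ _) ≫ pullback.snd g g = pullback.snd w w ≫ s := by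
    rw [hk]; exact pullback.lift_snd _ _ _
  rw [pu_comp' rfl, pu_comp' rfl, ← h1, ← h2, pu_comp, pu_comp, pu_comp, pu_comp, h𝒰 i]

/-- **The sheaf property.** -/
theorem isFlfSheaf (hF1a : F1a f) (hF1b : F1b f) (hZ1 : Z1 f) (hZ2 : Z2 f) (E : PicSh f) :
    IsFlfSheaf E.G := by
  refine isFlfSheaf_of ((isEtSheaf_iff _).mp E.sheaf) (fun g hg hgs y₁ y₂ h => inj hF1b hZ1 E g hg hgs y₁ y₂ h) ?_
  intro T T' g hg hgs x hx
  obtain ⟨𝒰, h𝒰⟩ := hF1a E g hg.1 x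
  refine LocEx.of_cover 𝒰 (fun i => ?_)
  obtain ⟨c, hc⟩ := h𝒰 i
  rw [← hc]
  refine ex_of_locEq hF1b hZ2 E _ (isFinLocFree_fst g hg _) (surjective_fst g hgs _) c ?_
  rw [← E.eq_iff, E.nat, E.nat, hc, ← map_comp_apply, ← map_comp_apply]
  apply hx
  rw [Category.assoc, Category.assoc, ← pullback.condition, ← Category.assoc, ← Category.assoc,
    pullback.condition]

end Groth.Agent.Pic13.H964.Shf
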