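import Groth.Agent.Pic13.H964.K1
import Groth.Agent.Picfga.LineFam
import Mathlib.AlgebraicGeometry.Morphisms.Flat

/-!
# Multiplicative descent of functions along flat affine surjective morphisms

* `fn_ext`, `exists_fn` : functions on opens of `X` are the functions on `π⁻¹` with equal pullbacks to `X' ×_X X'`;
* `exists_coboundary` : a unit cocycle on `X' ×_X X'` is, Zariski-locally on `X`, a coboundary.
-/

set_option autoImplicit false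
universe u

open CategoryTheory CategoryTheory.Limits AlgebraicGeometry TopologicalSpace
open scoped TensorProduct

namespace Groth.Agent.Pic13.H964.K2

open Groth.Agent.Fdesc Groth.Agent.Fdesc.LocGen Groth.Agent.Picfga.LineFam Groth.Agent.Picfga.LineHom
  Groth.Agent.Picfga.LineDescent

/-- A pushout of rings is a tensor product. -/
lemma exists_equiv {A B C D : Type u} [CommRing A] [CommRing B] [CommRing C] [CommRing D]
    [Algebra A B] [Algebra A C] {i : B →+* D} {j : C →+* D}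
    (h : IsPushout (CommRingCat.ofHom (algebraMap A B)) (CommRingCat.ofHom (algebraMap A C))
      (CommRingCat.ofHom i) (CommRingCat.ofHom j)) :
    ∃ e : (B ⊗[A] C) ≃+* D, ∀ b c, e (b ⊗ₜ c) = i b * j c := by
  have H := CommRingCat.isPushout_tensorProduct A B C
  let e := (H.isoIsPushout _ _ h).commRingCatIsoToRingEquiv
  have h1 : ∀ b, e (b ⊗ₜ 1) = i b := fun b =>
    congr($(H.inl_isoIsPushout_hom _ _ h).hom b)
  have h2 : ∀ c, e (1 ⊗ₜ c) = j c := fun c =>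
    congr($(H.inr_isoIsPushout_hom _ _ h).hom c)
  refine ⟨e, fun b c => ?_⟩
  have h3 : (b ⊗ₜ[A] c : B ⊗[A] C) = (b ⊗ₜ 1) * (1 ⊗ₜ c) := by
    rw [Algebra.TensorProduct.tmul_mul_tmul, mul_one, one_mul]
  rw [h3, map_mul, h1, h2]

variable {X X' X'' : Scheme.{u}} {π : X' ⟶ X} {p₁ p₂ : X'' ⟶ X'}

/-- Sections over affine opens of a fibre product. -/
lemma exists_sec_equiv {X Y Z P : Scheme.{u}} {f : X ⟶ Z} {g : Y ⟶ Z} {a : P ⟶ X} {b : P ⟶ Y}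
    (H : IsPullback a b f g) {W : Z.Opens} {U : X.Opens} {V : Y.Opens} {N : P.Opens}
    (hW : IsAffineOpen W) (hU : IsAffineOpen U) (hV : IsAffineOpen V) (hUW : U ≤ f ⁻¹ᵁ W)
    (hVW : V ≤ g ⁻¹ᵁ W) (hN : N = a ⁻¹ᵁ U ⊓ b ⁻¹ᵁ V) :
    letI := (fn f hUW).toAlgebra
    letI := (fn g hVW).toAlgebra
    ∃ e : (Γ(X, U) ⊗[Γ(Z, W)] Γ(Y, V)) ≃+* Γ(P, N),
      ∀ s t, e (s ⊗ₜ t) = fn a (hN.le.trans inf_le_left) s * fn b (hN.le.trans inf_le_right) t := by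
  let := (fn f hUW).toAlgebra
  let := (fn g hVW).toAlgebra
  have h1 := isIso_pushoutSection_of_isAffineOpen H hVW hUW hN hW hV hU
  rw [isIso_pushoutSection_iff] at h1
  exact exists_equiv h1

/-- Functions on the preimage of an affine open are faithfully flat. -/
lemma faithfullyFlat_fn (π : X' ⟶ X) [Flat π] [Surjective π] [IsAffineHom π] {W : X.Opens}
    (hW : IsAffineOpen W) :
    letI := (fn π (le_refl (π ⁻¹ᵁ W))).toAlgebra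
    Module.FaithfullyFlat Γ(X, W) Γ(X', π ⁻¹ᵁ W) := by
  have hW' : IsAffineOpen (π ⁻¹ᵁ W) := hW.preimage π
  have key : (π.appLE W (π ⁻¹ᵁ W) le_rfl).hom.FaithfullyFlat := by
    rw [RingHom.FaithfullyFlat.iff_flat_and_comap_surjective]
    refine ⟨π.flat_appLE hW hW' le_rfl, ?_⟩
    intro p
    have hp : hW.fromSpec p ∈ W := by
      have : hW.fromSpec p ∈ Set.range hW.fromSpec := ⟨p, rfl⟩
      rw [hW.range_fromSpec] at this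
      exact this
    obtain ⟨t, ht⟩ := π.surjective (hW.fromSpec p)
    obtain ⟨q, hq⟩ : t ∈ Set.range hW'.fromSpec := by
      rw [hW'.range_fromSpec]
      change π t ∈ W
      rw [ht]; exact hp
    refine ⟨q, ?_⟩
    have h1 := IsAffineOpen.SpecMap_appLE_fromSpec π hW hW' le_rfl
    have h2 : hW.fromSpec ((Spec.map (π.appLE W (π ⁻¹ᵁ W) le_rfl)) q) = hW.fromSpec p := by
      rw [← Scheme.Hom.comp_apply, h1, Scheme.Hom.comp_apply, hq, ht]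
    exact hW.fromSpec.isOpenEmbedding.injective h2
  exact key

/-- Restriction of `fn`. -/
lemma fn_ext_aux (π : X' ⟶ X) [Flat π] [Surjective π] [IsAffineHom π] {W : X.Opens}
    (hW : IsAffineOpen W) : Function.Injective (fn π (le_refl (π ⁻¹ᵁ W))) := by
  let := (fn π (le_refl (π ⁻¹ᵁ W))).toAlgebra
  have := faithfullyFlat_fn π hW
  exact FaithfulSMul.algebraMap_injective Γ(X, W) Γ(X', π ⁻¹ᵁ W)

section affineCover

/-- the affine opens contained in an open -/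
lemma iSup_affine (U : X.Opens) : U ≤ ⨆ W : {W : X.Opens // IsAffineOpen W ∧ W ≤ U}, W.1 := by
  intro x hx
  obtain ⟨W, hW, hxW, hWU⟩ := (Opens.isBasis_iff_nbhd.mp X.isBasis_affineOpens) hx
  exact Opens.mem_iSup.2 ⟨⟨W, hW, hWU⟩, hxW⟩

end affineCover

/-- Functions on `X` inject into functions on `X'`. -/
lemma app_injective (π : X' ⟶ X) [Flat π] [Surjective π] [IsAffineHom π] (U : X.Opens) :
    Function.Injective (π.app U) := by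
  intro a b hab
  refine ores_ext (fun W : {W : X.Opens // IsAffineOpen W ∧ W ≤ U} => W.1) (fun W => W.2.2)
    (iSup_affine U) fun W => ?_
  apply fn_ext_aux π W.2.1
  rw [fn_ores, fn_ores, fn_apply, fn_apply, hab]

/-- Functions on `X'` with equal pullbacks to `X' ×_X X'` descend. -/
theorem exists_fn (H : IsPullback p₁ p₂ π π) [Flat π] [Surjective π] [IsAffineHom π] {U : X.Opens}
    (a : Γ(X', π ⁻¹ᵁ U))
    (ha : fn p₁ (le_refl (p₁ ⁻¹ᵁ π ⁻¹ᵁ U)) a =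
      fn p₂ (le_of_eq (by rw [← Scheme.Hom.comp_preimage, ← Scheme.Hom.comp_preimage, H.w])) a) :
    ∃ b : Γ(X, U), π.app U b = a := by
  have key : ∀ W : {W : X.Opens // IsAffineOpen W ∧ W ≤ U}, ∃ b : Γ(X, W.1), π.app W.1 b =
      ores (π.preimage_mono W.2.2) a := by
    intro W
    have hW := W.2.1
    let := (fn π (le_refl (π ⁻¹ᵁ W.1))).toAlgebra
    have hff := faithfullyFlat_fn π hW
    obtain ⟨e, he⟩ := exists_sec_equiv H hW (hW.preimage π) (hW.preimage π) le_rfl le_rfl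
      (N := p₁ ⁻¹ᵁ π ⁻¹ᵁ W.1) (by
        rw [← Scheme.Hom.comp_preimage, ← Scheme.Hom.comp_preimage, H.w, inf_idem])
    obtain ⟨b, hb⟩ := K1.mem_range (R := Γ(X, W.1)) (R' := Γ(X', π ⁻¹ᵁ W.1))
      (q := ores (π.preimage_mono W.2.2) a) (by
        apply e.injective
        rw [he, he, map_one, map_one, mul_one, one_mul, fn_ores, fn_ores]
        have h1 := congrArg (ores (p₁.preimage_mono (π.preimage_mono W.2.2))) ha
        rw [ores_fn, ores_fn] at h1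
        exact h1)
    refine ⟨b, ?_⟩
    rw [← hb]
    change _ = ores le_rfl _
    rw [ores_refl]
  choose b hb using key
  obtain ⟨c, hc⟩ := ores_glue (fun W : {W : X.Opens // IsAffineOpen W ∧ W ≤ U} => W.1)
    (fun W => W.2.2) (iSup_affine U) b (fun W W' => by
      apply app_injective π
      rw [app_ores, app_ores, hb, hb, ores_ores, ores_ores])
  refine ⟨c, ?_⟩
  refine ores_ext (fun W : {W : X.Opens // IsAffineOpen W ∧ W ≤ U} => π ⁻¹ᵁ W.1)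
    (fun W => π.preimage_mono W.2.2) ?_ fun W => ?_
  · rw [← Scheme.Hom.preimage_iSup]
    exact π.preimage_mono (iSup_affine U)
  · rw [← app_ores π W.2.2, hc, hb]

/-- **Hilbert 90**: a unit cocycle is locally a coboundary. -/
theorem exists_coboundary {X₃ : Scheme.{u}} {q₁ : X₃ ⟶ X'} {q₁₂ q₂₃ q₁₃ : X₃ ⟶ X''}
    (H : IsPullback p₁ p₂ π π) (H₃ : IsPullback q₁ q₂₃ π (p₁ ≫ π))
    (h₁₂ : q₁₂ ≫ p₁ = q₁) (h₁₂' : q₁₂ ≫ p₂ = q₂₃ ≫ p₁) (h₁₃ : q₁₃ ≫ p₁ = q₁)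
    (h₁₃' : q₁₃ ≫ p₂ = q₂₃ ≫ p₂)
    [Flat π] [Surjective π] [IsAffineHom π] {U : X.Opens}
    (u : Γ(X'', p₁ ⁻¹ᵁ π ⁻¹ᵁ U)) (hu : IsUnit u)
    (huc : ∀ (N : X₃.Opens) (h : N ≤ q₁ ⁻¹ᵁ π ⁻¹ᵁ U),
      fn q₁₂ (h.trans (le_of_eq (by rw [← h₁₂, Scheme.Hom.comp_preimage]))) u *
      fn q₂₃ (h.trans (le_of_eq (by
        rw [← Scheme.Hom.comp_preimage, H₃.w, Scheme.Hom.comp_preimage, Scheme.Hom.comp_preimage]))) u =
      fn q₁₃ (h.trans (le_of_eq (by rw [← h₁₃, Scheme.Hom.comp_preimage]))) u)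
    {x : X} (hx : x ∈ U) :
    ∃ (W : X.Opens) (hWU : W ≤ U) (m : Γ(X', π ⁻¹ᵁ W)), x ∈ W ∧ IsUnit m ∧
      ∀ (N : X''.Opens) (h : N ≤ p₁ ⁻¹ᵁ π ⁻¹ᵁ W),
      fn p₁ h m = ores (h.trans (p₁.preimage_mono (π.preimage_mono hWU))) u *
        fn p₂ (h.trans (le_of_eq (by rw [← Scheme.Hom.comp_preimage, ← Scheme.Hom.comp_preimage, H.w]))) m := by
  obtain ⟨W, hW, hxW, hWU⟩ := (Opens.isBasis_iff_nbhd.mp X.isBasis_affineOpens) hx
  have hW : IsAffineOpen W := hW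
  have hW' : IsAffineOpen (π ⁻¹ᵁ W) := hW.preimage π
  have hff := faithfullyFlat_fn π hW
  let := (fn π (le_refl (π ⁻¹ᵁ W))).toAlgebra
  have hp₁ : IsAffineHom p₁ := MorphismProperty.of_isPullback H.flip ‹_›
  have hW'' : IsAffineOpen (p₁ ⁻¹ᵁ π ⁻¹ᵁ W) := hW'.preimage p₁
  have heq : p₁ ⁻¹ᵁ π ⁻¹ᵁ W = p₂ ⁻¹ᵁ π ⁻¹ᵁ W := by
    rw [← Scheme.Hom.comp_preimage, ← Scheme.Hom.comp_preimage, H.w]
  obtain ⟨e, he⟩ := exists_sec_equiv H hW hW' hW' le_rfl le_rfl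
    (N := p₁ ⁻¹ᵁ π ⁻¹ᵁ W) (by rw [← heq, inf_idem])
  let i2 : Algebra Γ(X, W) Γ(X'', p₁ ⁻¹ᵁ π ⁻¹ᵁ W) :=
    (fn (p₁ ≫ π) (le_refl (p₁ ⁻¹ᵁ π ⁻¹ᵁ W))).toAlgebra
  obtain ⟨e₃, he₃⟩ := exists_sec_equiv H₃ hW hW' hW'' le_rfl le_rfl
    (N := q₁ ⁻¹ᵁ π ⁻¹ᵁ W) (by
      have : q₂₃ ⁻¹ᵁ p₁ ⁻¹ᵁ π ⁻¹ᵁ W = q₁ ⁻¹ᵁ π ⁻¹ᵁ W := by
        rw [← Scheme.Hom.comp_preimage, ← Scheme.Hom.comp_preimage, ← Scheme.Hom.comp_preimage,
          Category.assoc, ← H₃.w]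
      rw [this, inf_idem])
  -- `e` as an algebra isomorphism
  let eA : (Γ(X', π ⁻¹ᵁ W) ⊗[Γ(X, W)] Γ(X', π ⁻¹ᵁ W)) ≃ₐ[Γ(X, W)] Γ(X'', p₁ ⁻¹ᵁ π ⁻¹ᵁ W) :=
    AlgEquiv.ofRingEquiv (f := e) (fun r => by
      change e ((algebraMap Γ(X, W) Γ(X', π ⁻¹ᵁ W) r) ⊗ₜ 1) = fn (p₁ ≫ π) _ r
      rw [he, map_one, mul_one]
      exact fn_comp π p₁ _ _ r)
  let ψ : Γ(X', π ⁻¹ᵁ W) ⊗[Γ(X, W)] (Γ(X', π ⁻¹ᵁ W) ⊗[Γ(X, W)] Γ(X', π ⁻¹ᵁ W)) ≃+*
      Γ(X₃, q₁ ⁻¹ᵁ π ⁻¹ᵁ W) :=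
    (Algebra.TensorProduct.congr (AlgEquiv.refl (R := Γ(X, W)) (A₁ := Γ(X', π ⁻¹ᵁ W))) eA).toRingEquiv.trans e₃
  have hψ : ∀ (a : Γ(X', π ⁻¹ᵁ W)) (x : Γ(X', π ⁻¹ᵁ W) ⊗[Γ(X, W)] Γ(X', π ⁻¹ᵁ W)),
      ψ (a ⊗ₜ x) = fn q₁ le_rfl a * fn q₂₃ (le_of_eq (by
        rw [← Scheme.Hom.comp_preimage, H₃.w, Scheme.Hom.comp_preimage, Scheme.Hom.comp_preimage]))
        (e x) := by
    intro a x
    exact he₃ a (e x)
  have l12 : q₁ ⁻¹ᵁ π ⁻¹ᵁ W ≤ q₁₂ ⁻¹ᵁ p₁ ⁻¹ᵁ π ⁻¹ᵁ W := le_of_eq (by rw [← h₁₂, Scheme.Hom.comp_preimage])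
  have l13 : q₁ ⁻¹ᵁ π ⁻¹ᵁ W ≤ q₁₃ ⁻¹ᵁ p₁ ⁻¹ᵁ π ⁻¹ᵁ W := le_of_eq (by rw [← h₁₃, Scheme.Hom.comp_preimage])
  have l23 : q₁ ⁻¹ᵁ π ⁻¹ᵁ W ≤ q₂₃ ⁻¹ᵁ p₁ ⁻¹ᵁ π ⁻¹ᵁ W := le_of_eq (by
        rw [← Scheme.Hom.comp_preimage, H₃.w, Scheme.Hom.comp_preimage, Scheme.Hom.comp_preimage])
  have c12 : ∀ x : Γ(X', π ⁻¹ᵁ W) ⊗[Γ(X, W)] Γ(X', π ⁻¹ᵁ W),
      ψ (K1.p12 Γ(X, W) Γ(X', π ⁻¹ᵁ W) x) = fn q₁₂ l12 (e x) := by
    intro x
    induction x using TensorProduct.induction_on with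
    | zero => simp
    | add x y hx hy => simp only [map_add, hx, hy]
    | tmul a b =>
      have : K1.p12 Γ(X, W) Γ(X', π ⁻¹ᵁ W) (a ⊗ₜ b) = a ⊗ₜ (b ⊗ₜ 1) := by simp [K1.p12]
      rw [this, hψ, he, he, map_one, mul_one, map_mul, fn_comp, fn_comp, fn_comp, fn_congr h₁₂, fn_congr h₁₂']
  have c13 : ∀ x : Γ(X', π ⁻¹ᵁ W) ⊗[Γ(X, W)] Γ(X', π ⁻¹ᵁ W),
      ψ (K1.p13 Γ(X, W) Γ(X', π ⁻¹ᵁ W) x) = fn q₁₃ l13 (e x) := by
    intro x
    induction x using TensorProduct.induction_on with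
    | zero => simp
    | add x y hx hy => simp only [map_add, hx, hy]
    | tmul a b =>
      have : K1.p13 Γ(X, W) Γ(X', π ⁻¹ᵁ W) (a ⊗ₜ b) = a ⊗ₜ (1 ⊗ₜ b) := by simp [K1.p13]
      rw [this, hψ, he, he, map_one, one_mul, map_mul, fn_comp, fn_comp, fn_comp, fn_congr h₁₃, fn_congr h₁₃']
  have c23 : ∀ x : Γ(X', π ⁻¹ᵁ W) ⊗[Γ(X, W)] Γ(X', π ⁻¹ᵁ W),
      ψ (K1.p23 Γ(X, W) Γ(X', π ⁻¹ᵁ W) x) = fn q₂₃ l23 (e x) := by
    intro x
    have : K1.p23 Γ(X, W) Γ(X', π ⁻¹ᵁ W) x = 1 ⊗ₜ x := rfl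
    rw [this, hψ, map_one, one_mul]
  -- the unit on `W`
  have hlW : p₁ ⁻¹ᵁ π ⁻¹ᵁ W ≤ p₁ ⁻¹ᵁ π ⁻¹ᵁ U := p₁.preimage_mono (π.preimage_mono hWU)
  obtain ⟨v, hv⟩ : IsUnit (e.symm (ores hlW u)) := (hu.map (ores hlW)).map e.symm
  have hev : e v.1 = ores hlW u := by rw [hv]; exact e.apply_symm_apply _
  have hvc : K1.p12 Γ(X, W) Γ(X', π ⁻¹ᵁ W) v.1 * K1.p23 Γ(X, W) Γ(X', π ⁻¹ᵁ W) v.1 =
      K1.p13 Γ(X, W) Γ(X', π ⁻¹ᵁ W) v.1 := by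
    apply ψ.injective
    rw [map_mul, c12, c13, c23, hev, fn_ores, fn_ores, fn_ores]
    exact huc (q₁ ⁻¹ᵁ π ⁻¹ᵁ W) (q₁.preimage_mono (π.preimage_mono hWU))
  obtain ⟨r, m, m', hr, hmm, hm⟩ := K1.exists_local v hvc (hW.primeIdealOf ⟨x, hxW⟩).asIdeal
  have hxr : x ∈ X.basicOpen r := by
    have h3 : hW.primeIdealOf ⟨x, hxW⟩ ∈ hW.fromSpec ⁻¹ᵁ (X.basicOpen r) := by
      rw [hW.fromSpec_preimage_basicOpen]
      exact hr
    have h2 : hW.fromSpec (hW.primeIdealOf ⟨x, hxW⟩) ∈ X.basicOpen r := h3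
    rwa [hW.fromSpec_primeIdealOf ⟨x, hxW⟩] at h2
  have hrW : X.basicOpen r ≤ W := X.basicOpen_le r
  refine ⟨X.basicOpen r, hrW.trans hWU, ores (π.preimage_mono hrW) m, hxr, ?_, ?_⟩
  · -- `m` is a unit there
    have h1 : IsUnit (ores (π.preimage_mono hrW) (algebraMap Γ(X, W) Γ(X', π ⁻¹ᵁ W) r)) := by
      change IsUnit (ores (π.preimage_mono hrW) (fn π le_rfl r))
      rw [ores_fn]
      have h2 : fn π (π.preimage_mono hrW) r = fn π (le_refl (π ⁻¹ᵁ X.basicOpen r)) (ores hrW r) := by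
        rw [fn_ores]
      rw [h2]
      have h3 : IsUnit (ores hrW r) := RingedSpace.isUnit_res_basicOpen X.toRingedSpace r
      exact h3.map _
    rw [← hmm, map_mul] at h1
    exact isUnit_of_mul_isUnit_left h1
  · intro N h
    have h1 := congrArg e hm
    rw [he, map_mul, he, map_one, mul_one, map_one, one_mul, hev] at h1
    have h2 := congrArg (ores (h.trans (p₁.preimage_mono (π.preimage_mono hrW)))) h1
    rw [map_mul, ores_fn, ores_fn, ores_ores] at h2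
    rw [fn_ores, fn_ores]
    exact h2

end Groth.Agent.Pic13.H964.K2
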