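import Groth.Agent.Pic13.H964.Defs
import Groth.Agent.Grpsch.PtRestrict
import Groth.Agent.CohqA.ChevMain
import Groth.Prelude.Def_Mor2
import Mathlib.AlgebraicGeometry.Morphisms.Flat
import Mathlib.AlgebraicGeometry.PullbackCarrier

/-!
# Descent of the property `IsAF` along finite locally free surjective morphisms
-/

set_option autoImplicit false
universe u

open CategoryTheory CategoryTheory.Limits AlgebraicGeometry

namespace Groth.Agent.Pic13.H964.AFDesc

open Groth.Agent.Grpsch.InvAffine Groth.Agent.Pic13.H964.Defs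

variable {P P' : Scheme.{u}}

/-- The equivalence relation defined by a morphism. -/
lemma isPtEquiv (π : P' ⟶ P) : IsPtEquiv (pullback.fst π π) (pullback.snd π π) where
  refl u := by
    obtain ⟨r, h1, h2⟩ := Scheme.Pullback.exists_preimage_pullback (f := π) (g := π) u u rfl
    exact ⟨r, h1, h2⟩
  symm r := by
    have h : π (pullback.snd π π r) = π (pullback.fst π π r) := by
      rw [← Scheme.Hom.comp_apply, ← Scheme.Hom.comp_apply, pullback.condition]
    obtain ⟨r', h1, h2⟩ := Scheme.Pullback.exists_preimage_pullback (f := π) (g := π) _ _ h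
    exact ⟨r', h1, h2⟩
  trans r r' hrr' := by
    have h : π (pullback.fst π π r') = π (pullback.snd π π r) := by
      rw [← Scheme.Hom.comp_apply, ← Scheme.Hom.comp_apply, ← pullback.condition, Scheme.Hom.comp_apply,
        Scheme.Hom.comp_apply, hrr', ← Scheme.Hom.comp_apply, ← Scheme.Hom.comp_apply, pullback.condition]
    obtain ⟨r'', h1, h2⟩ := Scheme.Pullback.exists_preimage_pullback (f := π) (g := π) _ _ h
    exact ⟨r'', h1, h2⟩

/-- A finite set of points of the quotient is contained in an open with affine preimage. -/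
theorem exists_affine_preimage (π : P' ⟶ P) [IsFinite π] [Flat π] [LocallyOfFinitePresentation π]
    [Surjective π] (h : IsAF P') (F : Finset P) :
    ∃ U : P.Opens, (∀ x ∈ F, x ∈ U) ∧ IsAffineOpen (π ⁻¹ᵁ U) := by
  classical
  have hst := isPtEquiv π
  set s := pullback.fst π π
  set t := pullback.snd π π
  have hπ : ∀ r, π (s r) = π (t r) := fun r => by
    rw [← Scheme.Hom.comp_apply, ← Scheme.Hom.comp_apply, pullback.condition]
  let O' : Set P' := π ⁻¹' (F : Set P)
  have hO' : O'.Finite := by
    have : O' = ⋃ x ∈ F, π ⁻¹' {x} := by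
      ext y; simp [O']
    rw [this]
    exact Set.Finite.biUnion F.finite_toSet (fun x _ => π.finite_preimage_singleton x)
  have hO'inv : ∀ r, s r ∈ O' → t r ∈ O' := fun r hr => by
    change π (t r) ∈ F
    rw [← hπ]; exact hr
  obtain ⟨V, hV, hFV⟩ := h hO'.toFinset
  let W : P'.Opens := ⟨core s t (V : Set P'), isOpen_core s.isClosedMap V.isOpen⟩
  have hWV : W ≤ V := core_subset hst (V : Set P')
  have hWinv : ∀ r, s r ∈ W → t r ∈ W := core_invariant hst (V : Set P')
  have hW := Grpsch.PtRestrict.preimage_eq_of_inv hst W hWinv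
  have hOW : O' ⊆ W := fun x hx r hr => by
    refine hFV _ ?_
    rw [Set.Finite.mem_toFinset]
    exact hO'inv r (by rw [hr]; exact hx)
  let O : Set W.toScheme := W.ι ⁻¹' O'
  have hO : O.Finite := hO'.preimage W.ι.isOpenEmbedding.injective.injOn
  let j := Grpsch.PtRestrict.toSpec hV hWV
  obtain ⟨I, hI, hcl⟩ := Grpsch.PtRestrict.exists_ideal_of_isOpenImmersion j
  obtain ⟨g, hg, haff, hOg, hinv, -⟩ := exists_invariant_basicOpen (s ∣_ W)
    (Grpsch.PtRestrict.tRes s t W hW) (Grpsch.PtRestrict.isPtEquiv_res hst W hW) j I hI hcl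
    Set.univ isClosed_univ (fun _ _ => trivial) O hO
    (Grpsch.PtRestrict.preimage_inv W hW _ hO'inv)
    (Set.subset_univ _) (Or.inr inferInstance)
  set N : P'.Opens := W.ι ''ᵁ (j ⁻¹ᵁ PrimeSpectrum.basicOpen g) with hN
  have hNa : IsAffineOpen N := haff.image_of_isOpenImmersion W.ι
  have hNinv : ∀ r, s r ∈ N → t r ∈ N :=
    Grpsch.PtRestrict.image_inv W hW _ (fun r hr => hinv r trivial hr)
  have hON : O' ⊆ N := fun x hx => ⟨⟨x, hOW hx⟩, hOg _ hx, rfl⟩
  have hopen : IsOpenMap π := π.isOpenMap
  let U : P.Opens := ⟨π '' (N : Set P'), hopen _ N.isOpen⟩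
  have hUN : π ⁻¹ᵁ U = N := by
    apply le_antisymm
    · rintro x ⟨y, hy, hyx⟩
      obtain ⟨r, h1, h2⟩ := Scheme.Pullback.exists_preimage_pullback (f := π) (g := π) y x hyx
      have := hNinv r (by rw [show s r = y from h1]; exact hy)
      rwa [show t r = x from h2] at this
    · intro x hx
      exact ⟨x, hx, rfl⟩
  refine ⟨U, fun x hx => ?_, by rw [hUN]; exact hNa⟩
  obtain ⟨y, rfl⟩ := π.surjective x
  exact ⟨y, hON hx, rfl⟩

/-- **Descent of AF.** -/
theorem isAF_of_finLocFree (π : P' ⟶ P) [IsFinite π] [Flat π] [LocallyOfFinitePresentation π]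
    [Surjective π] [IsLocallyNoetherian P] (h : IsAF P') : IsAF P := by
  intro F
  obtain ⟨U, hF, hU⟩ := exists_affine_preimage π h F
  refine ⟨U, ?_, hF⟩
  have h1 : IsAffine (π ⁻¹ᵁ U).toScheme := hU
  have h2 : Surjective (π ∣_ U) := MorphismProperty.of_isPullback
    (isPullback_morphismRestrict π U).flip ‹_›
  have h3 : CompactSpace U.toScheme := by
    have hc : CompactSpace (π ⁻¹ᵁ U).toScheme := inferInstance
    exact (π ∣_ U).surjective.compactSpace (π ∣_ U).continuous
  have h4 : IsLocallyNoetherian U.toScheme := isLocallyNoetherian_of_isOpenImmersion U.ι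
  have h5 : IsNoetherian U.toScheme := {}
  exact CohqA.ChevMain.isAffine (π ∣_ U)

end Groth.Agent.Pic13.H964.AFDesc
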