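import Groth.Agent.Pic13.H964.UnitFam
import Groth.Agent.Pic13.H602.FamDesc3
import Groth.Agent.Pic13.H547.SecSheaf
import Groth.Agent.Picfga.HilbFpqc

/-!
# The Čech obstruction to descending invertible modules on `X_T'` to `X_T`

`g : T' ⟶ T` over `S`, `L` invertible on `X_{T'}`, `θ₁, θ₂` identify the two pullbacks of `L` to `X_{T' ×_T T'}`.

* `Rel` : the relation between families over two points;
* `z a b c` : the unit measuring the failure of the cocycle condition, natural, a 2-cocycle;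
* `exists_desc` : if `z` is the coboundary of `y` over `W ⟶ T`, then `L` descends to `X_W`.
-/

set_option autoImplicit false

universe u v

open CategoryTheory CategoryTheory.Limits AlgebraicGeometry TopologicalSpace Opposite

namespace Groth.Agent.Pic13.H964.CechPic

open Groth.Agent.Fdesc Groth.Agent.Fdesc.LocGen Groth.Agent.Picfga.LineHom
  Groth.Agent.Picfga.LineDescent Groth.Agent.Picfga.LineFam Groth.Agent.Pic13.H602.Rig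
  Groth.Agent.Pic13.H602.FamDesc Groth.Agent.Pic13.H964.UnitFam Groth.Agent.Picfga.HilbPull
  Groth.Agent.Pic13.H547.SecSheaf Groth.Agent.Desc.QD
open PicF (XT XTmap)

variable {X S : Scheme.{u}} {f : X ⟶ S}

lemma upl_XTmap {T T' : Over S} (g : T' ⟶ T) (w : Γ(XT f T, ⊤)ˣ) : upl (XTmap f g) w = upu f g w := rfl

lemma XTcomp {T T' T'' : Over S} {g : T' ⟶ T} {h : T'' ⟶ T'} {k : T'' ⟶ T} (e : h ≫ g = k) :
    XTmap f h ≫ XTmap f g = XTmap f k := by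
  rw [← e, XTmap_comp]

/-- Associativity of composition. -/
lemma sim_assoc {Y Y' Y'' Y₃ : Scheme.{u}} {G : Y' ⟶ Y} {G' : Y'' ⟶ Y'} {G'' : Y₃ ⟶ Y''}
    {L : Y.Modules} {L' : Y'.Modules} {L'' : Y''.Modules} {L₃ : Y₃.Modules} (θ : Fam G L L')
    (θ' : Fam G' L' L'') (θ'' : Fam G'' L'' L₃) :
    Sim ((θ.comp θ').comp θ'') (θ.comp (θ'.comp θ'')) :=
  ⟨(Category.assoc _ _ _).symm, Fam.ext' fun _ _ => res_refl _ _⟩

section rel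

variable {T T' T₂ : Over S} {g : T' ⟶ T} {r₁ r₂ : T₂ ⟶ T'}
  {L : (XT f T').Modules} {N₀ : (XT f T₂).Modules}
  (θ₁ : Fam (XTmap f r₁) L N₀) (θ₂ : Fam (XTmap f r₂) L N₀)

/-- Families over two points correspond under `θ₁, θ₂`. -/
def Rel {V : Over S} {a b : V ⟶ T'} {N : (XT f V).Modules} (α : Fam (XTmap f a) L N)
    (β : Fam (XTmap f b) L N) : Prop :=
  ∃ (c : V ⟶ T₂) (κ : Fam (XTmap f c) N₀ N), c ≫ r₁ = a ∧ c ≫ r₂ = b ∧ Sim (θ₁.comp κ) α ∧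
    Sim (θ₂.comp κ) β

variable {θ₁ θ₂}

lemma Rel.us {V : Over S} {a b : V ⟶ T'} {N : (XT f V).Modules} {α : Fam (XTmap f a) L N}
    {β : Fam (XTmap f b) L N} (h : Rel θ₁ θ₂ α β) (w : Γ(XT f V, ⊤)ˣ) :
    Rel θ₁ θ₂ (us w α) (us w β) := by
  obtain ⟨c, κ, h1, h2, h3, h4⟩ := h
  exact ⟨c, UnitFam.us w κ, h1, h2, by rw [comp_us]; exact h3.us w, by rw [comp_us]; exact h4.us w⟩

lemma Rel.comp {V V' : Over S} {a b : V ⟶ T'} {N : (XT f V).Modules} {α : Fam (XTmap f a) L N}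
    {β : Fam (XTmap f b) L N} (h : Rel θ₁ θ₂ α β) (k : V' ⟶ V) {N' : (XT f V').Modules}
    (K : Fam (XTmap f k) N N') {a' b' : V' ⟶ T'} (ha : k ≫ a = a') (hb : k ≫ b = b')
    {α' : Fam (XTmap f a') L N'} {β' : Fam (XTmap f b') L N'} (hα : Sim (α.comp K) α')
    (hβ : Sim (β.comp K) β') : Rel θ₁ θ₂ α' β' := by
  obtain ⟨c, κ, h1, h2, h3, h4⟩ := h
  refine ⟨k ≫ c, (κ.comp K).cast (XTcomp rfl), by rw [Category.assoc, h1, ha],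
    by rw [Category.assoc, h2, hb], ?_, ?_⟩
  · exact (((Sim.comp_right θ₁ (Sim.cast_left _)).trans (sim_assoc _ _ _).symm).trans
      (h3.comp_left K)).trans hα
  · exact (((Sim.comp_right θ₂ (Sim.cast_left _)).trans (sim_assoc _ _ _).symm).trans
      (h4.comp_left K)).trans hβ

variable (hP : IsPullback r₁ r₂ g g) (hL : PicF.IsInvertible L)

include hP hL

variable (θ₁ θ₂) in
lemma rel_ex {V : Over S} {a b : V ⟶ T'} (w : a ≫ g = b ≫ g) {N : (XT f V).Modules}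
    (α : Fam (XTmap f a) L N) : ∃ β : Fam (XTmap f b) L N, Rel θ₁ θ₂ α β := by
  obtain ⟨κ, hκ⟩ := exists_fill_sim hL θ₁ α (XTcomp (hP.lift_fst a b w))
  exact ⟨(θ₂.comp κ).cast (XTcomp (hP.lift_snd a b w)), _, κ, hP.lift_fst a b w, hP.lift_snd a b w,
    hκ, Sim.cast_right _⟩

lemma rel_uniq {V : Over S} {a b : V ⟶ T'} {N : (XT f V).Modules}
    {α : Fam (XTmap f a) L N} {β β' : Fam (XTmap f b) L N} (h : Rel θ₁ θ₂ α β)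
    (h' : Rel θ₁ θ₂ α β') : β = β' := by
  obtain ⟨c, κ, h1, h2, h3, h4⟩ := h
  obtain ⟨c', κ', h1', h2', h3', h4'⟩ := h'
  obtain rfl : c = c' := hP.hom_ext (h1.trans h1'.symm) (h2.trans h2'.symm)
  have h5 : Sim κ κ' := Sim.cancel hL θ₁ rfl (h3.trans h3'.symm)
  exact ((h4.symm.trans (h5.comp_right _)).trans h4').eq

/-- The unit `z a b c`. -/
theorem exists_z {V : Over S} (a b c : V ⟶ T') (hab : a ≫ g = b ≫ g) (hbc : b ≫ g = c ≫ g) :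
    ∃ w : Γ(XT f V, ⊤)ˣ, ∀ (N : (XT f V).Modules) (α : Fam (XTmap f a) L N)
      (β : Fam (XTmap f b) L N) (γ γ' : Fam (XTmap f c) L N), Rel θ₁ θ₂ α β → Rel θ₁ θ₂ β γ →
      Rel θ₁ θ₂ α γ' → γ = us w γ' := by
  set α₁ := can (XTmap f a) L
  obtain ⟨β₁, hβ₁⟩ := rel_ex θ₁ θ₂ hP hL hab α₁
  obtain ⟨γ₁, hγ₁⟩ := rel_ex θ₁ θ₂ hP hL hbc β₁
  obtain ⟨γ₂, hγ₂⟩ := rel_ex θ₁ θ₂ hP hL (hab.trans hbc) α₁
  obtain ⟨w, hw⟩ := exists_us hL γ₂ γ₁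
  refine ⟨w, fun N α β γ γ' h1 h2 h3 => ?_⟩
  obtain ⟨K, hK⟩ := exists_fill_sim hL α₁ α (XTcomp (Category.id_comp a))
  have e1 : Rel θ₁ θ₂ α ((β₁.comp K).cast (XTcomp (Category.id_comp b))) :=
    hβ₁.comp (𝟙 V) K (Category.id_comp a) (Category.id_comp b) hK (Sim.cast_right _)
  obtain rfl := rel_uniq hP hL h1 e1
  have e2 := hγ₁.comp (𝟙 V) K (Category.id_comp b) (Category.id_comp c)
    (Sim.cast_right (XTcomp (Category.id_comp b))) (Sim.cast_right (XTcomp (Category.id_comp c)))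
  obtain rfl := rel_uniq hP hL h2 e2
  have e3 := hγ₂.comp (𝟙 V) K (Category.id_comp a) (Category.id_comp c) hK
    (Sim.cast_right (XTcomp (Category.id_comp c)))
  obtain rfl := rel_uniq hP hL h3 e3
  rw [← us_cast, hw, us_comp, upl_XTmap, upu_id]

/-- The unit `z a b c`. -/
noncomputable def z {V : Over S} (a b c : V ⟶ T') (hab : a ≫ g = b ≫ g) (hbc : b ≫ g = c ≫ g) :
    Γ(XT f V, ⊤)ˣ :=
  (exists_z (θ₁ := θ₁) (θ₂ := θ₂) hP hL a b c hab hbc).choose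

lemma z_spec {V : Over S} (a b c : V ⟶ T') (hab : a ≫ g = b ≫ g) (hbc : b ≫ g = c ≫ g)
    {N : (XT f V).Modules} {α : Fam (XTmap f a) L N}
    {β : Fam (XTmap f b) L N} {γ γ' : Fam (XTmap f c) L N} (h1 : Rel θ₁ θ₂ α β)
    (h2 : Rel θ₁ θ₂ β γ) (h3 : Rel θ₁ θ₂ α γ') :
    γ = us (z (θ₁ := θ₁) (θ₂ := θ₂) hP hL a b c hab hbc) γ' :=
  (exists_z (θ₁ := θ₁) (θ₂ := θ₂) hP hL a b c hab hbc).choose_spec N α β γ γ' h1 h2 h3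

lemma z_unique {V : Over S} (a b c : V ⟶ T') (hab : a ≫ g = b ≫ g) (hbc : b ≫ g = c ≫ g)
    {N : (XT f V).Modules} {α : Fam (XTmap f a) L N}
    {β : Fam (XTmap f b) L N} {γ γ' : Fam (XTmap f c) L N} (h1 : Rel θ₁ θ₂ α β)
    (h2 : Rel θ₁ θ₂ β γ) (h3 : Rel θ₁ θ₂ α γ') {w : Γ(XT f V, ⊤)ˣ} (hw : γ = us w γ') :
    w = z (θ₁ := θ₁) (θ₂ := θ₂) hP hL a b c hab hbc :=
  us_injective hL γ' (hw.symm.trans (z_spec hP hL a b c hab hbc h1 h2 h3))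

lemma z_nat {V V' : Over S} (k : V' ⟶ V) (a b c : V ⟶ T') (hab : a ≫ g = b ≫ g)
    (hbc : b ≫ g = c ≫ g) :
    upu f k (z (θ₁ := θ₁) (θ₂ := θ₂) hP hL a b c hab hbc) =
      z (θ₁ := θ₁) (θ₂ := θ₂) hP hL (k ≫ a) (k ≫ b) (k ≫ c) (by simp [hab]) (by simp [hbc]) := by
  set α₁ := can (XTmap f a) L
  obtain ⟨β₁, hβ₁⟩ := rel_ex θ₁ θ₂ hP hL hab α₁
  obtain ⟨γ₁, hγ₁⟩ := rel_ex θ₁ θ₂ hP hL hbc β₁
  obtain ⟨γ₂, hγ₂⟩ := rel_ex θ₁ θ₂ hP hL (hab.trans hbc) α₁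
  have h := z_spec hP hL a b c hab hbc hβ₁ hγ₁ hγ₂
  set K := can (XTmap f k) (PB (XTmap f a) L)
  refine z_unique hP hL _ _ _ _ _
    (hβ₁.comp k K rfl rfl (Sim.cast_right (XTcomp rfl)) (Sim.cast_right (XTcomp rfl)))
    (hγ₁.comp k K rfl rfl (Sim.cast_right (XTcomp rfl)) (Sim.cast_right (XTcomp rfl)))
    (hγ₂.comp k K rfl rfl (Sim.cast_right (XTcomp rfl)) (Sim.cast_right (XTcomp rfl))) ?_
  rw [← us_cast]
  congr 1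
  rw [← upl_XTmap, ← us_comp, ← h]

lemma z_coc {V : Over S} (a b c d : V ⟶ T') (hab : a ≫ g = b ≫ g) (hbc : b ≫ g = c ≫ g)
    (hcd : c ≫ g = d ≫ g) :
    z (θ₁ := θ₁) (θ₂ := θ₂) hP hL b c d hbc hcd * z (θ₁ := θ₁) (θ₂ := θ₂) hP hL a b d hab (hbc.trans hcd) =
      z (θ₁ := θ₁) (θ₂ := θ₂) hP hL a c d (hab.trans hbc) hcd *
        z (θ₁ := θ₁) (θ₂ := θ₂) hP hL a b c hab hbc := by
  set α := can (XTmap f a) L
  obtain ⟨β, hβ⟩ := rel_ex θ₁ θ₂ hP hL hab α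
  obtain ⟨γ, hγ⟩ := rel_ex θ₁ θ₂ hP hL hbc β
  obtain ⟨γ', hγ'⟩ := rel_ex θ₁ θ₂ hP hL (hab.trans hbc) α
  obtain ⟨δ, hδ⟩ := rel_ex θ₁ θ₂ hP hL hcd γ
  obtain ⟨δ', hδ'⟩ := rel_ex θ₁ θ₂ hP hL (hbc.trans hcd) β
  obtain ⟨δ₂, hδ₂⟩ := rel_ex θ₁ θ₂ hP hL hcd γ'
  obtain ⟨δ₃, hδ₃⟩ := rel_ex θ₁ θ₂ hP hL (hab.trans (hbc.trans hcd)) α
  have e1 := z_spec hP hL a b c hab hbc hβ hγ hγ'
  have e2 := z_spec hP hL b c d hbc hcd hγ hδ hδ'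
  have e3 := z_spec hP hL a c d (hab.trans hbc) hcd hγ' hδ₂ hδ₃
  have e4 := z_spec hP hL a b d hab (hbc.trans hcd) hβ hδ' hδ₃
  -- `δ = z a b c • δ₂`
  have e5 : δ = us (z (θ₁ := θ₁) (θ₂ := θ₂) hP hL a b c hab hbc) δ₂ := by
    have h1 := hδ₂.us (z (θ₁ := θ₁) (θ₂ := θ₂) hP hL a b c hab hbc)
    rw [← e1] at h1
    exact rel_uniq hP hL hδ h1
  rw [e5, e3, e4, us_us, us_us] at e2
  have := us_injective hL δ₃ e2
  rw [← this, mul_comm]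

end rel

/-- Pullback squares in `Over S`. -/
lemma isPullback_left {R T₁ T₂ T : Over S} {a : R ⟶ T₁} {b : R ⟶ T₂} {c : T₁ ⟶ T} {e : T₂ ⟶ T}
    (H : IsPullback a b c e) : IsPullback a.left b.left c.left e.left :=
  H.map (Over.forget S)

lemma isPullback_XT {R T₁ T₂ T : Over S} {a : R ⟶ T₁} {b : R ⟶ T₂} {c : T₁ ⟶ T} {e : T₂ ⟶ T}
    (H : IsPullback a b c e) : IsPullback (XTmap f a) (XTmap f b) (XTmap f c) (XTmap f e) :=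
  Picfga.HilbFpqc.isPullback_XTmap_of_isPullback f (isPullback_left H)

variable (f) in
lemma fpqc_XTmap {T T' : Over S} (g : T' ⟶ T) [Flat g.left] [Surjective g.left] [QuasiCompact g.left] :
    Presieve.ofArrows (fun _ : PUnit.{u + 1} => XT f T') (fun _ => XTmap f g) ∈
      Scheme.fpqcPrecoverage (XT f T) := by
  have H := isPullback_XTmap f g
  have h1 : Flat (XTmap f g) := MorphismProperty.of_isPullback H.flip ‹_›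
  have h2 : Surjective (XTmap f g) := MorphismProperty.of_isPullback H.flip ‹_›
  have h3 : QuasiCompact (XTmap f g) := MorphismProperty.of_isPullback H.flip ‹_›
  rw [Presieve.ofArrows_pUnit]
  exact (XTmap f g).singleton_mem_fpqcPrecoverage

section desc

variable {T T' T₂ : Over S} {g : T' ⟶ T} {r₁ r₂ : T₂ ⟶ T'}
  {L : (XT f T').Modules} {N₀ : (XT f T₂).Modules}
  {θ₁ : Fam (XTmap f r₁) L N₀} {θ₂ : Fam (XTmap f r₂) L N₀}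

/-- A natural system of units on pairs of points. -/
structure YSys (f : X ⟶ S) (g : T' ⟶ T) {W : Over S} (j : W ⟶ T) where
  y : ∀ {V : Over S} (v : V ⟶ W) (a b : V ⟶ T'), v ≫ j = a ≫ g → v ≫ j = b ≫ g → Γ(XT f V, ⊤)ˣ
  nat : ∀ {V V' : Over S} (h : V' ⟶ V) (v : V ⟶ W) (a b : V ⟶ T') (e : v ≫ j = a ≫ g)
      (e' : v ≫ j = b ≫ g) {v' : V' ⟶ W} {a' b' : V' ⟶ T'} (_ : h ≫ v = v') (_ : h ≫ a = a')
      (_ : h ≫ b = b') (E : v' ≫ j = a' ≫ g) (E' : v' ≫ j = b' ≫ g),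
      upu f h (y v a b e e') = y v' a' b' E E'

variable {W : Over S} {j : W ⟶ T} (Y : YSys f g j)

/-- The key relation. -/
lemma key_rel {W' W₂ : Over S} {w : W' ⟶ W} {s : W' ⟶ T'} {q₁ q₂ : W₂ ⟶ W'}
    {N_W : (XT f W₂).Modules} {A₁ : Fam (XTmap f (q₁ ≫ s)) L N_W} {A₂ : Fam (XTmap f (q₂ ≫ s)) L N_W}
    (hA : Rel θ₁ θ₂ A₁ A₂) {L_W : (XT f W').Modules} {lam : Fam (XTmap f s) L L_W}
    {φ₁ : Fam (XTmap f q₁) L_W N_W} {φ₂ : Fam (XTmap f q₂) L_W N_W} (hφ₁ : Sim (lam.comp φ₁) A₁)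
    (e₁ : (q₁ ≫ w) ≫ j = (q₁ ≫ s) ≫ g) (e₂ : (q₁ ≫ w) ≫ j = (q₂ ≫ s) ≫ g)
    (hφ₂ : Sim (lam.comp φ₂) (us (Y.y (q₁ ≫ w) (q₁ ≫ s) (q₂ ≫ s) e₁ e₂)⁻¹ A₂))
    {V : Over S} (k : V ⟶ W₂) {p₁ p₂ : V ⟶ W'} (h₁ : k ≫ q₁ = p₁) (h₂ : k ≫ q₂ = p₂)
    {v : V ⟶ W} {a b : V ⟶ T'} (hv : p₁ ≫ w = v) (ha : p₁ ≫ s = a) (hb : p₂ ≫ s = b)
    (E₁ : v ≫ j = a ≫ g) (E₂ : v ≫ j = b ≫ g)
    {N : (XT f V).Modules} (K : Fam (XTmap f k) N_W N)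
    {α : Fam (XTmap f a) L N} {β : Fam (XTmap f b) L N}
    (hα : Sim ((lam.comp φ₁).comp K) α) (hβ : Sim ((lam.comp φ₂).comp K) β) :
    Rel θ₁ θ₂ α (us (Y.y v a b E₁ E₂) β) := by
  subst h₁ h₂ hv ha hb
  refine hA.comp k K (Category.assoc _ _ _).symm (Category.assoc _ _ _).symm
    ((hφ₁.comp_left K).symm.trans hα) ?_
  have h3 := (hφ₂.comp_left K).symm.trans hβ
  rw [us_comp, upl_XTmap, map_inv, Y.nat k _ _ _ e₁ e₂ (Category.assoc _ _ _).symm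
    (Category.assoc _ _ _).symm (Category.assoc _ _ _).symm E₁ E₂] at h3
  have h4 := h3.us (Y.y ((k ≫ q₁) ≫ w) ((k ≫ q₁) ≫ s) ((k ≫ q₂) ≫ s) E₁ E₂)
  rw [us_us, mul_inv_cancel, us_one] at h4
  exact h4

/-- The cocycle condition for the corrected families. -/
lemma coc_sim (hP : IsPullback r₁ r₂ g g) (hL : PicF.IsInvertible L)
    (hy : ∀ {V : Over S} (v : V ⟶ W) (a b c : V ⟶ T') (ea : v ≫ j = a ≫ g) (eb : v ≫ j = b ≫ g)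
      (ec : v ≫ j = c ≫ g), z (θ₁ := θ₁) (θ₂ := θ₂) hP hL a b c (ea.symm.trans eb) (eb.symm.trans ec) =
        Y.y v b c eb ec * (Y.y v a c ea ec)⁻¹ * Y.y v a b ea eb)
    {W' W₂ W₃ : Over S} {w : W' ⟶ W} {s : W' ⟶ T'} (hws : w ≫ j = s ≫ g) {q₁ q₂ : W₂ ⟶ W'}
    (hq : q₁ ≫ w = q₂ ≫ w)
    {N_W : (XT f W₂).Modules} {A₁ : Fam (XTmap f (q₁ ≫ s)) L N_W} {A₂ : Fam (XTmap f (q₂ ≫ s)) L N_W}
    (hA : Rel θ₁ θ₂ A₁ A₂) {L_W : (XT f W').Modules} {lam : Fam (XTmap f s) L L_W}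
    {φ₁ : Fam (XTmap f q₁) L_W N_W} {φ₂ : Fam (XTmap f q₂) L_W N_W} (hφ₁ : Sim (lam.comp φ₁) A₁)
    (e₁ : (q₁ ≫ w) ≫ j = (q₁ ≫ s) ≫ g) (e₂ : (q₁ ≫ w) ≫ j = (q₂ ≫ s) ≫ g)
    (hφ₂ : Sim (lam.comp φ₂) (us (Y.y (q₁ ≫ w) (q₁ ≫ s) (q₂ ≫ s) e₁ e₂)⁻¹ A₂))
    {l r m : W₃ ⟶ W₂} (hlr : l ≫ q₂ = r ≫ q₁) (hm₁ : m ≫ q₁ = l ≫ q₁) (hm₂ : m ≫ q₂ = r ≫ q₂)
    {N₃ : (XT f W₃).Modules} {κ₁₂ : Fam (XTmap f l) N_W N₃} {κ₂₃ : Fam (XTmap f r) N_W N₃}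
    {κ₁₃ : Fam (XTmap f m) N_W N₃} (h₂₃ : Sim (φ₁.comp κ₂₃) (φ₂.comp κ₁₂))
    (h₁₃ : Sim (φ₁.comp κ₁₃) (φ₁.comp κ₁₂)) : Sim (φ₂.comp κ₂₃) (φ₂.comp κ₁₃) := by
  refine Sim.cancel hL lam (by rw [XTcomp rfl, XTcomp rfl, hm₂]) ?_
  -- the points
  let v : W₃ ⟶ W := (l ≫ q₁) ≫ w
  let a : W₃ ⟶ T' := (l ≫ q₁) ≫ s
  let b : W₃ ⟶ T' := (l ≫ q₂) ≫ s
  let c : W₃ ⟶ T' := (r ≫ q₂) ≫ s
  have hv₂ : (l ≫ q₂) ≫ w = v := by
    change _ = (l ≫ q₁) ≫ w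
    rw [Category.assoc, Category.assoc, hq]
  have hv₃ : (r ≫ q₂) ≫ w = v := by
    rw [← hv₂, hlr, Category.assoc, Category.assoc, hq]
  have Ea : v ≫ j = a ≫ g := by
    change ((l ≫ q₁) ≫ w) ≫ j = ((l ≫ q₁) ≫ s) ≫ g
    simp only [Category.assoc, hws]
  have Eb : v ≫ j = b ≫ g := by
    rw [← hv₂]
    change ((l ≫ q₂) ≫ w) ≫ j = ((l ≫ q₂) ≫ s) ≫ g
    simp only [Category.assoc, hws]
  have Ec : v ≫ j = c ≫ g := by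
    rw [← hv₃]
    change ((r ≫ q₂) ≫ w) ≫ j = ((r ≫ q₂) ≫ s) ≫ g
    simp only [Category.assoc, hws]
  have ca : XTmap f l ≫ XTmap f q₁ ≫ XTmap f s = XTmap f a := by
    rw [XTcomp rfl, XTcomp (Category.assoc l q₁ s).symm]
  have cb : XTmap f l ≫ XTmap f q₂ ≫ XTmap f s = XTmap f b := by
    rw [XTcomp rfl, XTcomp (Category.assoc l q₂ s).symm]
  have cc : XTmap f r ≫ XTmap f q₂ ≫ XTmap f s = XTmap f c := by
    rw [XTcomp rfl, XTcomp (Category.assoc r q₂ s).symm]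
  have cc' : XTmap f m ≫ XTmap f q₂ ≫ XTmap f s = XTmap f c := by
    rw [XTcomp rfl, XTcomp (Category.assoc m q₂ s).symm, hm₂]
  -- the families
  let α := ((lam.comp φ₁).comp κ₁₂).cast ca
  let β := ((lam.comp φ₂).comp κ₁₂).cast cb
  let γ := ((lam.comp φ₂).comp κ₂₃).cast cc
  let γ' := ((lam.comp φ₂).comp κ₁₃).cast cc'
  have x₁₂ : Rel θ₁ θ₂ α (us (Y.y v a b Ea Eb) β) :=
    key_rel Y hA hφ₁ e₁ e₂ hφ₂ l rfl rfl rfl rfl rfl Ea Eb κ₁₂ (Sim.cast_right ca) (Sim.cast_right cb)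
  have x₂₃ : Rel θ₁ θ₂ β (us (Y.y v b c Eb Ec) γ) := by
    refine key_rel Y hA hφ₁ e₁ e₂ hφ₂ r hlr.symm rfl hv₂ rfl rfl Eb Ec κ₂₃ ?_ (Sim.cast_right cc)
    exact (((sim_assoc _ _ _).trans (h₂₃.comp_right lam)).trans (sim_assoc _ _ _).symm).trans
      (Sim.cast_right cb)
  have x₁₃ : Rel θ₁ θ₂ α (us (Y.y v a c Ea Ec) γ') := by
    refine key_rel Y hA hφ₁ e₁ e₂ hφ₂ m hm₁ hm₂ rfl rfl rfl Ea Ec κ₁₃ ?_ (Sim.cast_right cc')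
    exact (((sim_assoc _ _ _).trans (h₁₃.comp_right lam)).trans (sim_assoc _ _ _).symm).trans
      (Sim.cast_right ca)
  have x := z_spec hP hL a b c (Ea.symm.trans Eb) (Eb.symm.trans Ec) x₁₂
    (x₂₃.us (Y.y v a b Ea Eb)) x₁₃
  rw [hy v a b c Ea Eb Ec, us_us, us_us] at x
  have e : Y.y v b c Eb Ec * (Y.y v a c Ea Ec)⁻¹ * Y.y v a b Ea Eb * Y.y v a c Ea Ec =
      Y.y v a b Ea Eb * Y.y v b c Eb Ec := by
    rw [mul_right_comm, inv_mul_cancel_right, mul_comm]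
  rw [e] at x
  have x' : γ = γ' := us_left_cancel x
  exact (((sim_assoc _ _ _).symm.trans (Sim.cast_right cc)).trans (Sim.of_eq x')).trans
    ((Sim.cast_right cc').symm.trans (sim_assoc _ _ _))

/-- Overlap data from the corrected families. -/
lemma exists_desc_aux (hP : IsPullback r₁ r₂ g g) (hL : PicF.IsInvertible L)
    (hy : ∀ {V : Over S} (v : V ⟶ W) (a b c : V ⟶ T') (ea : v ≫ j = a ≫ g) (eb : v ≫ j = b ≫ g)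
      (ec : v ≫ j = c ≫ g), z (θ₁ := θ₁) (θ₂ := θ₂) hP hL a b c (ea.symm.trans eb) (eb.symm.trans ec) =
        Y.y v b c eb ec * (Y.y v a c ea ec)⁻¹ * Y.y v a b ea eb)
    {W' W₂ W₃ : Over S} {w : W' ⟶ W} {s : W' ⟶ T'} (hws : w ≫ j = s ≫ g) {q₁ q₂ : W₂ ⟶ W'}
    (Hq : IsPullback q₁ q₂ w w) {l r : W₃ ⟶ W₂} (H₃ : IsPullback l r q₂ q₁)
    (hfp : Presieve.ofArrows (fun _ : PUnit.{u + 1} => XT f W') (fun _ => XTmap f w) ∈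
      Scheme.fpqcPrecoverage (XT f W)) :
    ∃ (M : (XT f W).Modules) (_ : PicF.IsInvertible M),
      Nonempty (Fam (XTmap f w) M (PB (XTmap f s) L)) := by
  have hq : q₁ ≫ w = q₂ ≫ w := Hq.w
  have e₁ : (q₁ ≫ w) ≫ j = (q₁ ≫ s) ≫ g := by simp only [Category.assoc, hws]
  have e₂ : (q₁ ≫ w) ≫ j = (q₂ ≫ s) ≫ g := by rw [hq]; simp only [Category.assoc, hws]
  let lam := can (XTmap f s) L
  have hLW : PicF.IsInvertible (PB (XTmap f s) L) := lam.isInvertible hL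
  let c₂ : W₂ ⟶ T₂ := hP.lift (q₁ ≫ s) (q₂ ≫ s) (e₁.symm.trans e₂)
  let N_W := PB (XTmap f c₂) N₀
  let κ₀ : Fam (XTmap f c₂) N₀ N_W := can (XTmap f c₂) N₀
  have hc₁ : c₂ ≫ r₁ = q₁ ≫ s := hP.lift_fst _ _ _
  have hc₂ : c₂ ≫ r₂ = q₂ ≫ s := hP.lift_snd _ _ _
  let A₁ : Fam (XTmap f (q₁ ≫ s)) L N_W := (θ₁.comp κ₀).cast (XTcomp hc₁)
  let A₂ : Fam (XTmap f (q₂ ≫ s)) L N_W := (θ₂.comp κ₀).cast (XTcomp hc₂)
  have hA : Rel θ₁ θ₂ A₁ A₂ := ⟨c₂, κ₀, hc₁, hc₂, Sim.cast_right _, Sim.cast_right _⟩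
  obtain ⟨φ₁, hφ₁⟩ := exists_fill_sim hL lam A₁ (XTcomp rfl)
  obtain ⟨φ₂, hφ₂⟩ := exists_fill_sim hL lam (us (Y.y (q₁ ≫ w) (q₁ ≫ s) (q₂ ≫ s) e₁ e₂)⁻¹ A₂)
    (XTcomp rfl)
  -- the triple product
  have hlr : l ≫ q₂ = r ≫ q₁ := H₃.w
  obtain ⟨m, hm₁, hm₂⟩ : ∃ m : W₃ ⟶ W₂, m ≫ q₁ = l ≫ q₁ ∧ m ≫ q₂ = r ≫ q₂ := by
    have : (l ≫ q₁) ≫ w = (r ≫ q₂) ≫ w := by
      rw [Category.assoc, hq, ← Category.assoc, hlr, Category.assoc, hq, Category.assoc]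
    exact ⟨Hq.lift _ _ this, Hq.lift_fst _ _ _, Hq.lift_snd _ _ _⟩
  let N₃ := PB (XTmap f l) N_W
  let κ₁₂ : Fam (XTmap f l) N_W N₃ := can (XTmap f l) N_W
  obtain ⟨κ₂₃, hκ₂₃⟩ := exists_fill_sim hLW φ₁ (φ₂.comp κ₁₂)
    (show XTmap f r ≫ XTmap f q₁ = XTmap f l ≫ XTmap f q₂ by rw [XTcomp rfl, XTcomp rfl, hlr])
  obtain ⟨κ₁₃, hκ₁₃⟩ := exists_fill_sim hLW φ₁ (φ₁.comp κ₁₂)
    (show XTmap f m ≫ XTmap f q₁ = XTmap f l ≫ XTmap f q₁ by rw [XTcomp rfl, XTcomp rfl, hm₁])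
  have key := coc_sim Y hP hL hy hws hq hA hφ₁ e₁ e₂ hφ₂ hlr hm₁ hm₂ hκ₂₃ hκ₁₃
  have Hq' : IsPullback (XTmap f q₁) (XTmap f q₂) (XTmap f w) (XTmap f w) := isPullback_XT Hq
  have H₃' : IsPullback (XTmap f l) (XTmap f r) (XTmap f q₂) (XTmap f q₁) := isPullback_XT H₃
  let O : Overlap (fun _ : PUnit.{u + 1} => XTmap f w) (fun _ => PB (XTmap f s) L) :=
    { P := fun _ _ => XT f W₂
      q₁ := fun _ _ => XTmap f q₁
      q₂ := fun _ _ => XTmap f q₂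
      isPb := fun _ _ => Hq'
      M := fun _ _ => N_W
      θ₁ := fun _ _ => φ₁
      θ₂ := fun _ _ => φ₂
      coc := fun _ _ _ => ⟨XT f W₃, XTmap f l, XTmap f r, XTmap f m, N₃, κ₁₂, κ₂₃, κ₁₃, hκ₁₃.symm,
        hκ₂₃.symm, key, fun Z a b c hab hbc => by
          refine ⟨H₃'.lift (Hq'.lift a b hab) (Hq'.lift b c hbc) (by
            rw [Hq'.lift_snd, Hq'.lift_fst]), ?_, ?_, ?_⟩
          · rw [H₃'.lift_fst_assoc, Hq'.lift_fst]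
          · rw [H₃'.lift_fst_assoc, Hq'.lift_snd]
          · rw [H₃'.lift_snd_assoc, Hq'.lift_snd]⟩ }
  obtain ⟨M, hM, θ, -⟩ := O.exists_desc (fun _ => hLW) hfp
  exact ⟨M, hM, ⟨θ ⟨⟩⟩⟩

/-- **Descent when the obstruction is a coboundary.** -/
theorem exists_desc (hP : IsPullback r₁ r₂ g g) (hL : PicF.IsInvertible L)
    (hy : ∀ {V : Over S} (v : V ⟶ W) (a b c : V ⟶ T') (ea : v ≫ j = a ≫ g) (eb : v ≫ j = b ≫ g)
      (ec : v ≫ j = c ≫ g), z (θ₁ := θ₁) (θ₂ := θ₂) hP hL a b c (ea.symm.trans eb) (eb.symm.trans ec) =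
        Y.y v b c eb ec * (Y.y v a c ea ec)⁻¹ * Y.y v a b ea eb)
    (h1 : Flat (pullback.fst j g).left) (h2 : Surjective (pullback.fst j g).left)
    (h3 : QuasiCompact (pullback.fst j g).left) :
    ∃ (M : (XT f W).Modules) (_ : PicF.IsInvertible M),
      Nonempty (Fam (XTmap f (pullback.fst j g)) M (PB (XTmap f (pullback.snd j g)) L)) :=
  exists_desc_aux Y hP hL hy pullback.condition (IsPullback.of_hasPullback _ _)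
    (IsPullback.of_hasPullback _ _) (fpqc_XTmap f (pullback.fst j g))

end desc

end Groth.Agent.Pic13.H964.CechPic
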