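import Groth.Agent.Pic13.H964.CechPic

/-!
# Descent of trivialisations

`M` invertible on `X_T`, `ε` a trivialisation of its pullback to `X_{T'}`, `g : T' ⟶ T`.

* `z1 a b` : the unit comparing the trivialisations over two points, a 1-cocycle;
* `exists_triv` : if `z1` is the coboundary of `y` over `W ⟶ T`, then `M` is trivial on `X_W`.
-/

set_option autoImplicit false

universe u v

open CategoryTheory CategoryTheory.Limits AlgebraicGeometry TopologicalSpace Opposite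

namespace Groth.Agent.Pic13.H964.CechPic

open Groth.Agent.Fdesc Groth.Agent.Fdesc.LocGen Groth.Agent.Picfga.LineHom
  Groth.Agent.Picfga.LineDescent Groth.Agent.Picfga.LineFam Groth.Agent.Pic13.H602.Rig
  Groth.Agent.Pic13.H602.FamDesc Groth.Agent.Pic13.H964.UnitFam Groth.Agent.Picfga.HilbPull
  Groth.Agent.Pic13.H547.SecSheaf Groth.Agent.Desc.QD
open PicF (XT XTmap)

variable {X S : Scheme.{u}} {f : X ⟶ S}

lemma can_comp_sim {Y Y' Y'' : Scheme.{u}} (G : Y' ⟶ Y) (G' : Y'' ⟶ Y') {H : Y'' ⟶ Y}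
    (h : G' ≫ G = H) : Sim ((Fam.can G).comp (Fam.can G')) (Fam.can H) := by
  subst h
  refine Sim.of_eq (Fam.ext' fun U s => ?_)
  rw [Fam.comp_map, Fam.can_map, Fam.can_map, Fam.can_map, AddEquiv.symm_apply_apply]
  rfl

section triv

variable {T T' : Over S} {g : T' ⟶ T} {M : (XT f T).Modules}
  (ε : Fam (XTmap f g) M (Coh.structureModule (XT f T')))

/-- The trivialisation over a point. -/
noncomputable def ev {V : Over S} (a : V ⟶ T') {b : V ⟶ T} (h : a ≫ g = b) :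
    Fam (XTmap f b) M (Coh.structureModule (XT f V)) :=
  (ε.comp (Fam.can (XTmap f a))).cast (XTcomp h)

lemma ev_comp {V V' : Over S} (a : V ⟶ T') {b : V ⟶ T} (h : a ≫ g = b) (k : V' ⟶ V) {a' : V' ⟶ T'}
    {b' : V' ⟶ T} (h' : a' ≫ g = b') (e : k ≫ a = a') :
    Sim ((ev ε a h).comp (Fam.can (XTmap f k))) (ev ε a' h') := by
  refine ((Sim.cast_left _).comp_left (Fam.can (XTmap f k))).trans ?_
  refine (sim_assoc _ _ _).trans ?_
  refine ((can_comp_sim _ _ (XTcomp e)).comp_right ε).trans ?_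
  exact Sim.cast_right _

variable (hM : PicF.IsInvertible M)

include hM

lemma exists_z1 {V : Over S} (a b : V ⟶ T') (e : a ≫ g = b ≫ g) :
    ∃ w : Γ(XT f V, ⊤)ˣ, ev ε a rfl = us w (ev ε b e.symm) :=
  exists_us hM _ _

/-- The comparison unit. -/
noncomputable def z1 {V : Over S} (a b : V ⟶ T') (e : a ≫ g = b ≫ g) : Γ(XT f V, ⊤)ˣ :=
  (exists_z1 ε hM a b e).choose

lemma z1_spec {V : Over S} (a b : V ⟶ T') (e : a ≫ g = b ≫ g) {c : V ⟶ T} (ha : a ≫ g = c)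
    (hb : b ≫ g = c) : ev ε a ha = us (z1 ε hM a b e) (ev ε b hb) := by
  subst ha
  exact (exists_z1 ε hM a b e).choose_spec

lemma z1_unique {V : Over S} (a b : V ⟶ T') (e : a ≫ g = b ≫ g) {c : V ⟶ T} (ha : a ≫ g = c)
    (hb : b ≫ g = c) {w : Γ(XT f V, ⊤)ˣ} (hw : ev ε a ha = us w (ev ε b hb)) :
    w = z1 ε hM a b e :=
  us_injective hM _ (hw.symm.trans (z1_spec ε hM a b e ha hb))

lemma z1_nat {V V' : Over S} (k : V' ⟶ V) (a b : V ⟶ T') (e : a ≫ g = b ≫ g) :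
    upu f k (z1 ε hM a b e) = z1 ε hM (k ≫ a) (k ≫ b) (by rw [Category.assoc, e, Category.assoc]) := by
  refine z1_unique ε hM _ _ _ (c := k ≫ a ≫ g) (Category.assoc _ _ _)
    (by rw [Category.assoc, e]) ?_
  have h := z1_spec ε hM a b e rfl e.symm
  have h1 := ev_comp ε a rfl k (a' := k ≫ a) (b' := k ≫ a ≫ g) (Category.assoc _ _ _) rfl
  have h2 := ev_comp ε b e.symm k (a' := k ≫ b) (b' := k ≫ a ≫ g) (by rw [Category.assoc, e]) rfl
  rw [h, us_comp, upl_XTmap] at h1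
  exact (h1.symm.trans (h2.us _)).eq

lemma z1_coc {V : Over S} (a b c : V ⟶ T') (e : a ≫ g = b ≫ g) (e' : b ≫ g = c ≫ g) :
    z1 ε hM a b e * z1 ε hM b c e' = z1 ε hM a c (e.trans e') := by
  refine z1_unique ε hM _ _ _ rfl (e.trans e').symm ?_
  rw [z1_spec ε hM a b e rfl e.symm, z1_spec ε hM b c e' e.symm (e.trans e').symm, us_us]

/-- **Descent of trivialisations.** -/
theorem exists_triv_aux {W W' W₂ : Over S} {j : W ⟶ T} {w : W' ⟶ W} {s : W' ⟶ T'}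
    (hws : w ≫ j = s ≫ g) {q₁ q₂ : W₂ ⟶ W'} (Hq : IsPullback q₁ q₂ w w)
    (hfp : Presieve.ofArrows (fun _ : PUnit.{u + 1} => XT f W') (fun _ => XTmap f w) ∈
      Scheme.fpqcPrecoverage (XT f W))
    (y : ∀ {V : Over S} (v : V ⟶ W) (a : V ⟶ T'), v ≫ j = a ≫ g → Γ(XT f V, ⊤)ˣ)
    (ynat : ∀ {V V' : Over S} (h : V' ⟶ V) (v : V ⟶ W) (a : V ⟶ T') (e : v ≫ j = a ≫ g),
      upu f h (y v a e) = y (h ≫ v) (h ≫ a) (by rw [Category.assoc, e, Category.assoc]))
    (hy : ∀ {V : Over S} (v : V ⟶ W) (a b : V ⟶ T') (e : v ≫ j = a ≫ g) (e' : v ≫ j = b ≫ g),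
      z1 ε hM a b (e.symm.trans e') = y v a e * (y v b e')⁻¹) :
    Nonempty (Fam (XTmap f j) M (Coh.structureModule (XT f W))) := by
  have hO : PicF.IsInvertible (Coh.structureModule (XT f W)) := isInvertible_structureModule
  let φ : Fam (XTmap f w ≫ XTmap f j) M (Coh.structureModule (XT f W')) :=
    (us (y w s hws)⁻¹ (ev ε s hws.symm)).cast (XTcomp rfl).symm
  have e₁ : (q₁ ≫ w) ≫ j = (q₁ ≫ s) ≫ g := by simp only [Category.assoc, hws]
  have e₂ : (q₁ ≫ w) ≫ j = (q₂ ≫ s) ≫ g := by rw [Hq.w]; simp only [Category.assoc, hws]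
  have h1 : ∀ (q : W₂ ⟶ W') (_ : q ≫ w = q₁ ≫ w) (E : (q₁ ≫ w) ≫ j = (q ≫ s) ≫ g),
      Sim (φ.comp (Fam.can (XTmap f q))) (us (y (q₁ ≫ w) (q ≫ s) E)⁻¹ (ev ε (q ≫ s) E.symm)) := by
    intro q hqw E
    refine ((Sim.cast_left _).comp_left (Fam.can (XTmap f q))).trans ?_
    rw [us_comp, upl_XTmap, map_inv, ynat]
    have h2 : y (q ≫ w) (q ≫ s) (by rw [Category.assoc, hws, Category.assoc]) =
        y (q₁ ≫ w) (q ≫ s) E := by
      congr 1
    rw [h2]
    exact (ev_comp ε s hws.symm q E.symm rfl).us _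
  obtain ⟨φ₀, -⟩ := exists_fam_overlap (q := fun _ : PUnit.{u + 1} => XTmap f w)
    (σ := XTmap f j) (L := M)
    (N := Coh.structureModule (XT f W)) (N' := fun _ => Coh.structureModule (XT f W')) hO hfp
    (fun _ => Fam.can (XTmap f w)) (P := fun _ _ => XT f W₂) (q₁ := fun _ _ => XTmap f q₁)
    (q₂ := fun _ _ => XTmap f q₂) (fun _ _ => isPullback_XT Hq)
    (N'' := fun _ _ => Coh.structureModule (XT f W₂))
    (fun _ _ => Fam.can (XTmap f q₁)) (fun _ _ => Fam.can (XTmap f q₂))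
    (fun _ _ => (can_comp_sim _ _ (XTcomp rfl)).trans
      (((can_comp_sim _ _ (XTcomp Hq.w.symm))).symm))
    (fun _ => φ) (fun _ _ => by
      refine (h1 q₁ rfl e₁).trans (Sim.trans (Sim.of_eq ?_) (h1 q₂ Hq.w.symm e₂).symm)
      rw [z1_spec ε hM (q₁ ≫ s) (q₂ ≫ s) (e₁.symm.trans e₂) e₁.symm e₂.symm, us_us,
        hy (q₁ ≫ w) (q₁ ≫ s) (q₂ ≫ s) e₁ e₂, inv_mul_cancel_left])
  exact ⟨φ₀⟩

/-- **Descent of trivialisations.** -/
theorem exists_triv {W : Over S} (j : W ⟶ T)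
    (h1 : Flat (pullback.fst j g).left) (h2 : Surjective (pullback.fst j g).left)
    (h3 : QuasiCompact (pullback.fst j g).left)
    (y : ∀ {V : Over S} (v : V ⟶ W) (a : V ⟶ T'), v ≫ j = a ≫ g → Γ(XT f V, ⊤)ˣ)
    (ynat : ∀ {V V' : Over S} (h : V' ⟶ V) (v : V ⟶ W) (a : V ⟶ T') (e : v ≫ j = a ≫ g),
      upu f h (y v a e) = y (h ≫ v) (h ≫ a) (by rw [Category.assoc, e, Category.assoc]))
    (hy : ∀ {V : Over S} (v : V ⟶ W) (a b : V ⟶ T') (e : v ≫ j = a ≫ g) (e' : v ≫ j = b ≫ g),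
      z1 ε hM a b (e.symm.trans e') = y v a e * (y v b e')⁻¹) :
    Nonempty (Fam (XTmap f j) M (Coh.structureModule (XT f W))) :=
  exists_triv_aux ε hM pullback.condition (IsPullback.of_hasPullback _ _)
    (fpqc_XTmap f (pullback.fst j g)) y ynat hy

end triv

end Groth.Agent.Pic13.H964.CechPic
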