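import Groth.Agent.Pic13.H964.ShfMain
import Groth.Agent.Pic13.H943.ExistsCF
import Groth.Agent.Pic13.H932.ExtGlue

/-!
# The rule `ext` for `GenGood`
-/

set_option autoImplicit false
universe u

open CategoryTheory CategoryTheory.Limits AlgebraicGeometry

namespace Groth.Agent.Pic13.H964.GenExt

open Groth.Agent.Pic13.H964.Defs

/-- **The rule `ext`.** -/
theorem genGood_ext {X S S' : Scheme.{u}} (f : X ⟶ S) (g : S' ⟶ S) [IsAffine S] [IsNoetherian S]
    [IsIntegral S] [IsAffine S'] [IsIntegral S'] [IsProper f] [IsFinite g]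
    [Flat g] [Surjective g] (h : GenGood (pullback.snd f g)) : GenGood f :=
  H932.ExtGlue.genGood_ext f g (H943.exists_cf f)
    (fun _ _ _ _ hf E => ShfMain.isFlfSheaf hf E) h

end Groth.Agent.Pic13.H964.GenExt
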