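import Groth.Agent.Pic13.H964.K2

/-!
# Descent of invertible modules along flat affine surjective morphisms

`π : X' ⟶ X` flat affine surjective, `L'` invertible on `X'`, `θ₁ : Fam p₁ L' N`, `θ₂ : Fam p₂ L' N` on `X' ×_X X'`.

* `exists_descent_of_inv`: local generators with `θ₁ e = θ₂ e` give a descent of `L'`;
* `exists_descent`: local generators with `θ₁ e = u θ₂ e`, `u` a cocycle, give a descent of `L'`;
* `exists_section`: an invariant generator of a pulled back module comes from a generator.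
-/

set_option autoImplicit false
universe u

open CategoryTheory CategoryTheory.Limits AlgebraicGeometry TopologicalSpace
open scoped TensorProduct

namespace Groth.Agent.Pic13.H964.FpqcLine

open Groth.Agent.Fdesc Groth.Agent.Fdesc.LocGen Groth.Agent.Picfga.LineFam Groth.Agent.Picfga.LineHom
  Groth.Agent.Picfga.LineDescent

variable {X X' X'' : Scheme.{u}} {π : X' ⟶ X} {p₁ p₂ : X'' ⟶ X'}

lemma le12 (w : p₁ ≫ π = p₂ ≫ π) (U : X.Opens) : p₁ ⁻¹ᵁ π ⁻¹ᵁ U ≤ p₂ ⁻¹ᵁ π ⁻¹ᵁ U :=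
  le_of_eq (by rw [← Scheme.Hom.comp_preimage, ← Scheme.Hom.comp_preimage, w])

lemma le21 (w : p₁ ≫ π = p₂ ≫ π) (U : X.Opens) : p₂ ⁻¹ᵁ π ⁻¹ᵁ U ≤ p₁ ⁻¹ᵁ π ⁻¹ᵁ U :=
  le_of_eq (by rw [← Scheme.Hom.comp_preimage, ← Scheme.Hom.comp_preimage, w])

section

variable {L' : X'.Modules} {N : X''.Modules} {θ₁ : Fam p₁ L' N} {θ₂ : Fam p₂ L' N}

/-- A section is invariant if its two pullbacks agree. -/
def Inv (w : p₁ ≫ π = p₂ ≫ π) (θ₁ : Fam p₁ L' N) (θ₂ : Fam p₂ L' N) {U : X.Opens}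
    (e : Γ(L', π ⁻¹ᵁ U)) : Prop := θ₁.map e = θ₂.on (le12 w U) e

lemma Inv.on {w : p₁ ≫ π = p₂ ≫ π} {U : X.Opens} {e : Γ(L', π ⁻¹ᵁ U)} (h : Inv w θ₁ θ₂ e)
    {M : X''.Opens} (hM : M ≤ p₁ ⁻¹ᵁ π ⁻¹ᵁ U) :
    θ₁.on hM e = θ₂.on (hM.trans (le12 w U)) e := by
  have := congrArg (LocGen.res N hM) h
  rw [Fam.res_on] at this
  exact this

lemma Inv.res {w : p₁ ≫ π = p₂ ≫ π} {U V : X.Opens} {e : Γ(L', π ⁻¹ᵁ U)} (h : Inv w θ₁ θ₂ e)
    (hV : V ≤ U) : Inv w θ₁ θ₂ (LocGen.res L' (π.preimage_mono hV) e) := by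
  rw [Inv, Fam.on_res, ← Fam.on_le_rfl, Fam.on_res]
  exact h.on _

/-- transition functions between invariant generators are invariant -/
lemma Inv.trans_fn {w : p₁ ≫ π = p₂ ≫ π} {U V : X.Opens} {e : Γ(L', π ⁻¹ᵁ U)} {e' : Γ(L', π ⁻¹ᵁ V)}
    (h : Inv w θ₁ θ₂ e) (h' : Inv w θ₁ θ₂ e') (he' : IsGen e') {W : X.Opens} (hU : W ≤ U) (hV : W ≤ V)
    {g : Γ(X', π ⁻¹ᵁ W)} (hg : LocGen.res L' (π.preimage_mono hU) e = g •
      LocGen.res L' (π.preimage_mono hV) e') :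
    fn p₁ (le_refl (p₁ ⁻¹ᵁ π ⁻¹ᵁ W)) g = fn p₂ (le12 w W) g := by
  have h1 := congrArg (θ₁.on (le_refl (p₁ ⁻¹ᵁ π ⁻¹ᵁ W))) hg
  have h2 := congrArg (θ₂.on (le12 w W)) hg
  rw [Fam.on_smul, Fam.on_res, Fam.on_res] at h1 h2
  rw [h.on, h'.on, h2] at h1
  exact ((θ₂.isGen_on _ he').ext h1).symm

/-- **Descent from invariant local generators.** -/
theorem exists_descent_of_inv (H : IsPullback p₁ p₂ π π) [Flat π] [Surjective π] [IsAffineHom π]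
    {ι : Type u} (U : ι → X.Opens) (hU : ⨆ i, U i = ⊤) (e : ∀ i, Γ(L', π ⁻¹ᵁ U i))
    (he : ∀ i, IsGen (e i)) (hinv : ∀ i, Inv H.w θ₁ θ₂ (e i)) :
    ∃ (M : X.Modules) (_ : PicF.IsInvertible M) (F : Fam π M L'),
      F.comp θ₁ = (F.comp θ₂).cast H.w.symm := by
  have key : ∀ i j, ∃ g : Γ(X, U i ⊓ U j),
      LocGen.res L' (π.preimage_mono (inf_le_left : U i ⊓ U j ≤ U i)) (e i) =
      π.app (U i ⊓ U j) g • LocGen.res L' (π.preimage_mono inf_le_right) (e j) := by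
    intro i j
    obtain ⟨g, hg⟩ := exists_smul (he j) (π.preimage_mono (inf_le_right : U i ⊓ U j ≤ U j))
      (LocGen.res L' (π.preimage_mono (inf_le_left : U i ⊓ U j ≤ U i)) (e i))
    have h1 := (hinv i).trans_fn (hinv j) (he j) inf_le_left inf_le_right hg.symm
    obtain ⟨g', hg'⟩ := K2.exists_fn H g h1
    exact ⟨g', by rw [hg', hg]⟩
  choose g hg using key
  obtain ⟨M, m, φ, hm, -, hφ⟩ := Groth.Agent.Picfga.LineDescent.exists_descent π U hU e he (K2.app_injective π) g hg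
  refine ⟨M, isInvertible_of_gens hU hm, Fam.ofIso φ, Fam.ext_of_gens hU hm fun i => ?_⟩
  have h1 : (Fam.ofIso φ).map (m i) = e i := hφ i
  rw [Fam.comp_map, h1, hinv i, ← Fam.on_le_rfl ((Fam.ofIso φ |>.comp θ₂).cast _), Fam.cast_on]
  rw [← h1]
  have h2 := Fam.comp_on (Fam.ofIso φ) θ₂ (M := π ⁻¹ᵁ U i) (N := p₁ ⁻¹ᵁ π ⁻¹ᵁ U i) le_rfl
    (le12 H.w (U i)) (m i)
  rw [Fam.on_le_rfl] at h2
  exact h2.symm

/-- **Descent of invertible modules.** -/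
theorem exists_descent {X₃ : Scheme.{u}} {q₁ : X₃ ⟶ X'} {q₁₂ q₂₃ q₁₃ : X₃ ⟶ X''}
    (H : IsPullback p₁ p₂ π π) (H₃ : IsPullback q₁ q₂₃ π (p₁ ≫ π))
    (h₁₂ : q₁₂ ≫ p₁ = q₁) (h₁₂' : q₁₂ ≫ p₂ = q₂₃ ≫ p₁) (h₁₃ : q₁₃ ≫ p₁ = q₁)
    (h₁₃' : q₁₃ ≫ p₂ = q₂₃ ≫ p₂)
    [Flat π] [Surjective π] [IsAffineHom π]
    {ι : Type u} (U : ι → X.Opens) (hU : ⨆ i, U i = ⊤) (e : ∀ i, Γ(L', π ⁻¹ᵁ U i))
    (he : ∀ i, IsGen (e i)) (v : ∀ i, Γ(X'', p₁ ⁻¹ᵁ π ⁻¹ᵁ U i))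
    (hv : ∀ i, θ₁.map (e i) = v i • θ₂.on (le12 H.w (U i)) (e i))
    (hvc : ∀ i (N : X₃.Opens) (h : N ≤ q₁ ⁻¹ᵁ π ⁻¹ᵁ U i),
      fn q₁₂ (h.trans (le_of_eq (by rw [← h₁₂, Scheme.Hom.comp_preimage]))) (v i) *
      fn q₂₃ (h.trans (le_of_eq (by
        rw [← Scheme.Hom.comp_preimage, H₃.w, Scheme.Hom.comp_preimage, Scheme.Hom.comp_preimage]))) (v i) =
      fn q₁₃ (h.trans (le_of_eq (by rw [← h₁₃, Scheme.Hom.comp_preimage]))) (v i)) :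
    ∃ (M : X.Modules) (_ : PicF.IsInvertible M) (F : Fam π M L'),
      F.comp θ₁ = (F.comp θ₂).cast H.w.symm := by
  have hcov : ∀ x : X, ∃ i, x ∈ U i := fun x => Opens.mem_iSup.1 (by rw [hU]; trivial)
  choose i hi using hcov
  have hvu : ∀ i, IsUnit (v i) := fun i => by
    have h1 : IsGen (v i • θ₂.on (le12 H.w (U i)) (e i)) := by
      rw [← hv]; exact θ₁.gen (he i)
    exact (θ₂.isGen_on _ (he i)).isUnit_of_smul h1
  choose W hWU m hxW hmu hm using fun x : X => K2.exists_coboundary H H₃ h₁₂ h₁₂' h₁₃ h₁₃' (v (i x))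
    (hvu (i x)) (hvc (i x)) (hi x)
  choose m' hm' using fun x : X => (hmu x).exists_left_inv
  have hm'u : ∀ x, IsUnit (m' x) := fun x => IsUnit.of_mul_eq_one (m x) (hm' x)
  refine exists_descent_of_inv H (fun x : X => W x)
    (top_le_iff.1 fun x _ => Opens.mem_iSup.2 ⟨x, hxW x⟩)
    (fun x => m' x • LocGen.res L' (π.preimage_mono (hWU x)) (e (i x)))
    (fun x => ((he (i x)).res _).unit_smul (hm'u x)) (fun x => ?_)
  rw [Inv, ← Fam.on_le_rfl, Fam.on_smul, Fam.on_smul, Fam.on_res, Fam.on_res]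
  have h1 := congrArg (LocGen.res N (p₁.preimage_mono (π.preimage_mono (hWU x)))) (hv (i x))
  rw [res_smul, Fam.res_on] at h1
  have h2 : θ₁.on ((le_refl _).trans (p₁.preimage_mono (π.preimage_mono (hWU x)))) (e (i x)) =
      ores (p₁.preimage_mono (π.preimage_mono (hWU x))) (v (i x)) •
        θ₂.on ((p₁.preimage_mono (π.preimage_mono (hWU x))).trans (le12 H.w _)) (e (i x)) := h1
  rw [h2, smul_smul]
  congr 1
  have h3 := hm x _ (le_refl (p₁ ⁻¹ᵁ π ⁻¹ᵁ W x))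
  have h4 := congrArg (fn p₁ (le_refl (p₁ ⁻¹ᵁ π ⁻¹ᵁ W x))) (hm' x)
  have h5 := congrArg (fn p₂ (le12 H.w (W x))) (hm' x)
  rw [map_mul, map_one] at h4 h5
  calc fn p₁ (le_refl (p₁ ⁻¹ᵁ π ⁻¹ᵁ W x)) (m' x) *
        ores (p₁.preimage_mono (π.preimage_mono (hWU x))) (v (i x))
      = fn p₁ (le_refl (p₁ ⁻¹ᵁ π ⁻¹ᵁ W x)) (m' x) *
        ores (p₁.preimage_mono (π.preimage_mono (hWU x))) (v (i x)) *
        (fn p₂ (le12 H.w (W x)) (m' x) * fn p₂ (le12 H.w (W x)) (m x)) := by rw [h5, mul_one]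
    _ = fn p₁ (le_refl (p₁ ⁻¹ᵁ π ⁻¹ᵁ W x)) (m' x) *
        (ores (p₁.preimage_mono (π.preimage_mono (hWU x))) (v (i x)) * fn p₂ (le12 H.w (W x)) (m x)) *
        fn p₂ (le12 H.w (W x)) (m' x) := by ring
    _ = fn p₁ (le_refl (p₁ ⁻¹ᵁ π ⁻¹ᵁ W x)) (m' x) * fn p₁ (le_refl (p₁ ⁻¹ᵁ π ⁻¹ᵁ W x)) (m x) *
        fn p₂ (le12 H.w (W x)) (m' x) := by rw [h3]
    _ = _ := by rw [h4, one_mul]

/-- Units are detected after pullback. -/
lemma isUnit_of_app (H : IsPullback p₁ p₂ π π) [Flat π] [Surjective π] [IsAffineHom π] {U : X.Opens}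
    {a : Γ(X, U)} (ha : IsUnit (π.app U a)) : IsUnit a := by
  obtain ⟨b, hb⟩ := ha.exists_left_inv
  have h1 := congrArg (fn p₁ (le_refl (p₁ ⁻¹ᵁ π ⁻¹ᵁ U))) hb
  have h2 := congrArg (fn p₂ (le12 H.w U)) hb
  rw [map_mul, map_one] at h1 h2
  have h3 : fn p₁ (le_refl (p₁ ⁻¹ᵁ π ⁻¹ᵁ U)) (π.app U a) = fn p₂ (le12 H.w U) (π.app U a) := by
    have e1 : π.app U a = fn π le_rfl a := by rw [fn_apply, ores_refl]
    rw [e1, fn_comp, fn_comp, fn_congr H.w]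
  have h4 : fn p₁ (le_refl (p₁ ⁻¹ᵁ π ⁻¹ᵁ U)) b = fn p₂ (le12 H.w U) b := by
    calc fn p₁ (le_refl (p₁ ⁻¹ᵁ π ⁻¹ᵁ U)) b
        = fn p₁ (le_refl (p₁ ⁻¹ᵁ π ⁻¹ᵁ U)) b * (fn p₂ (le12 H.w U) b * fn p₂ (le12 H.w U) (π.app U a)) := by
          rw [h2, mul_one]
      _ = (fn p₁ (le_refl (p₁ ⁻¹ᵁ π ⁻¹ᵁ U)) b * fn p₁ (le_refl (p₁ ⁻¹ᵁ π ⁻¹ᵁ U)) (π.app U a)) *
          fn p₂ (le12 H.w U) b := by rw [h3]; ring
      _ = _ := by rw [h1, one_mul]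
  obtain ⟨b', hb'⟩ := K2.exists_fn H b h4
  refine IsUnit.of_mul_eq_one_right b' (K2.app_injective π U ?_)
  rw [map_mul, hb', hb, map_one]

/-- The map on sections is injective. -/
lemma map_injective [Flat π] [Surjective π] [IsAffineHom π] {M : X.Modules}
    (hM : PicF.IsInvertible M) (F : Fam π M L') {U : X.Opens} {s t : Γ(M, U)}
    (h : F.map s = F.map t) : s = t := by
  obtain ⟨V, n, hV, hn⟩ := Fam.exists_gens hM
  refine res_ext M (V := U) (fun i ↦ U ⊓ V i) (fun i ↦ inf_le_left) (cover_inf hV U) fun i ↦ ?_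
  obtain ⟨a, ha⟩ := exists_smul (hn i) (inf_le_right : U ⊓ V i ≤ V i)
    (LocGen.res M (inf_le_left : U ⊓ V i ≤ U) s)
  obtain ⟨b, hb⟩ := exists_smul (hn i) (inf_le_right : U ⊓ V i ≤ V i)
    (LocGen.res M (inf_le_left : U ⊓ V i ≤ U) t)
  have h1 := congrArg (LocGen.res L' (π.preimage_mono (inf_le_left : U ⊓ V i ≤ U))) h
  rw [← F.res inf_le_left, ← F.res inf_le_left, ← ha, ← hb, F.smul, F.smul] at h1
  have h2 := K2.app_injective π _ ((F.gen ((hn i).res _)).ext h1)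
  rw [← ha, ← hb, h2]

/-- **Descent of generators.** -/
theorem exists_section (H : IsPullback p₁ p₂ π π) [Flat π] [Surjective π] [IsAffineHom π]
    {M : X.Modules} (hM : PicF.IsInvertible M) (F : Fam π M L')
    (hF : F.comp θ₁ = (F.comp θ₂).cast H.w.symm) {U : X.Opens} (e : Γ(L', π ⁻¹ᵁ U)) (he : IsGen e)
    (hinv : Inv H.w θ₁ θ₂ e) : ∃ m : Γ(M, U), IsGen m ∧ F.map m = e := by
  obtain ⟨V, n, hV, hn⟩ := Fam.exists_gens hM
  have hFinv : ∀ i, Inv H.w θ₁ θ₂ (F.map (n i)) := fun i => by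
    have h1 := congrArg (fun G : Fam (p₁ ≫ π) M N => G.on (le_refl _) (n i)) hF
    rw [Inv]
    have h2 := Fam.comp_on F θ₁ (M := π ⁻¹ᵁ V i) (N := p₁ ⁻¹ᵁ π ⁻¹ᵁ V i) le_rfl le_rfl (n i)
    have h3 := Fam.comp_on F θ₂ (M := π ⁻¹ᵁ V i) (N := p₁ ⁻¹ᵁ π ⁻¹ᵁ V i) le_rfl (le12 H.w _) (n i)
    have h4 : F.on (le_refl _) (n i) = F.map (n i) := Fam.on_le_rfl F _
    rw [h4] at h2 h3
    rw [← Fam.on_le_rfl θ₁, ← h2, ← h3]
    simp only [Fam.cast_on] at h1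
    exact h1
  have key : ∀ i, ∃ m : Γ(M, U ⊓ V i), IsGen m ∧
      F.map m = LocGen.res L' (π.preimage_mono inf_le_left) e := by
    intro i
    obtain ⟨g, hg⟩ := exists_smul (F.gen (hn i)) (π.preimage_mono (inf_le_right : U ⊓ V i ≤ V i))
      (LocGen.res L' (π.preimage_mono (inf_le_left : U ⊓ V i ≤ U)) e)
    have h1 := hinv.trans_fn (hFinv i) (F.gen (hn i)) inf_le_left inf_le_right hg.symm
    obtain ⟨g', hg'⟩ := K2.exists_fn H g h1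
    have hgu : IsUnit g := by
      apply ((F.gen (hn i)).res (π.preimage_mono (inf_le_right : U ⊓ V i ≤ V i))).isUnit_of_smul
      rw [hg]
      exact he.res _
    refine ⟨g' • LocGen.res M inf_le_right (n i), ((hn i).res _).unit_smul
      (isUnit_of_app H (by rw [hg']; exact hgu)), ?_⟩
    rw [F.smul, F.res, hg', hg]
  choose m hm hFm using key
  obtain ⟨t, ht⟩ := res_glue M (V := U) (fun i ↦ U ⊓ V i) (fun i ↦ inf_le_left) (cover_inf hV U) m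
    (fun i j => by
      apply map_injective hM F
      rw [F.res, F.res, hFm, hFm, res_res, res_res])
  refine ⟨t, IsGen.of_cover (fun i ↦ U ⊓ V i) (fun i ↦ inf_le_left) (cover_inf hV U)
    (fun i => by rw [ht]; exact hm i), ?_⟩
  refine res_ext L' (V := π ⁻¹ᵁ U) (fun i ↦ π ⁻¹ᵁ (U ⊓ V i)) (fun i ↦ π.preimage_mono inf_le_left) ?_
    fun i ↦ ?_
  · rw [← Scheme.Hom.preimage_iSup]
    exact π.preimage_mono (cover_inf hV U)
  · rw [← F.res inf_le_left, ht, hFm]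

end

end Groth.Agent.Pic13.H964.FpqcLine
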