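import Mathlib.RingTheory.Flat.Equalizer
import Mathlib.RingTheory.Flat.FaithfullyFlat.Algebra
import Mathlib.RingTheory.TensorProduct.IncludeLeftSubRight
import Mathlib.RingTheory.TensorProduct.Basic

/-!
# Hilbert 90 for faithfully flat algebras, locally on the base

`R → R'` faithfully flat, `u ∈ (R' ⊗ R')ˣ` with `p₁₂ u * p₂₃ u = p₁₃ u`. Locally on `Spec R` there is a unit `m` of
`R'` with `m ⊗ 1 = u * (1 ⊗ m)`.
-/

set_option autoImplicit false

open TensorProduct

namespace Groth.Agent.Pic13.H964.K1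

variable {R R' : Type*} [CommRing R] [CommRing R'] [Algebra R R']

/-- `a ⊗ b ↦ a ⊗ (b ⊗ 1)` -/
noncomputable abbrev p12 (R R' : Type*) [CommRing R] [CommRing R'] [Algebra R R'] :
    R' ⊗[R] R' →ₐ[R] R' ⊗[R] (R' ⊗[R] R') :=
  Algebra.TensorProduct.map (AlgHom.id R R') Algebra.TensorProduct.includeLeft

/-- `a ⊗ b ↦ a ⊗ (1 ⊗ b)` -/
noncomputable abbrev p13 (R R' : Type*) [CommRing R] [CommRing R'] [Algebra R R'] :
    R' ⊗[R] R' →ₐ[R] R' ⊗[R] (R' ⊗[R] R') :=
  Algebra.TensorProduct.map (AlgHom.id R R') Algebra.TensorProduct.includeRight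

/-- `a ⊗ b ↦ 1 ⊗ (a ⊗ b)` -/
noncomputable abbrev p23 (R R' : Type*) [CommRing R] [CommRing R'] [Algebra R R'] :
    R' ⊗[R] R' →ₐ[R] R' ⊗[R] (R' ⊗[R] R') :=
  Algebra.TensorProduct.includeRight

/-- Elements with equal images in `R' ⊗ R'` come from `R`. -/
lemma mem_range [Module.FaithfullyFlat R R'] {q : R'} (h : q ⊗ₜ[R] (1 : R') = 1 ⊗ₜ q) :
    ∃ r : R, algebraMap R R' r = q := by
  have h1 := (Algebra.IsEffective.of_faithfullyFlat R R').eqLocus_includeLeft_includeRight
  have h2 : q ∈ Set.range (algebraMap R R') := by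
    rw [← h1]
    exact h
  exact h2

/-- the multiplication of three factors -/
noncomputable def mul3 (R R' : Type*) [CommRing R] [CommRing R'] [Algebra R R'] :
    R' ⊗[R] (R' ⊗[R] R') →ₐ[R] R' :=
  (Algebra.TensorProduct.lmul' R).comp
    (Algebra.TensorProduct.map (AlgHom.id R R') (Algebra.TensorProduct.lmul' R))

lemma mul3_p12 (x : R' ⊗[R] R') : mul3 R R' (p12 R R' x) = Algebra.TensorProduct.lmul' R x := by
  induction x using TensorProduct.induction_on with
  | zero => simp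
  | add x y hx hy => simp only [map_add, hx, hy]
  | tmul a b => simp [mul3, p12]

lemma mul3_p13 (x : R' ⊗[R] R') : mul3 R R' (p13 R R' x) = Algebra.TensorProduct.lmul' R x := by
  induction x using TensorProduct.induction_on with
  | zero => simp
  | add x y hx hy => simp only [map_add, hx, hy]
  | tmul a b => simp [mul3, p13]

lemma mul3_p23 (x : R' ⊗[R] R') : mul3 R R' (p23 R R' x) = Algebra.TensorProduct.lmul' R x := by
  induction x using TensorProduct.induction_on with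
  | zero => simp
  | add x y hx hy => simp only [map_add, hx, hy]
  | tmul a b => simp [mul3, p23]

/-- the value of a cocycle on the diagonal -/
lemma lmul_eq_one (u : (R' ⊗[R] R')ˣ)
    (hu : p12 R R' u.1 * p23 R R' u.1 = p13 R R' u.1) : Algebra.TensorProduct.lmul' R u.1 = 1 := by
  have h1 := congrArg (mul3 R R') hu
  rw [map_mul, mul3_p12, mul3_p13, mul3_p23] at h1
  have h2 : IsUnit (Algebra.TensorProduct.lmul' (S := R') R u.1) := u.isUnit.map _
  exact h2.mul_left_cancel (by rw [h1, mul_one])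

/-- The solutions of `m ⊗ 1 = u (1 ⊗ m)`. -/
noncomputable def sol (u : R' ⊗[R] R') : Submodule R R' :=
  LinearMap.eqLocus (Algebra.TensorProduct.includeLeft (R := R) (S := R) (A := R') (B := R')).toLinearMap
    ((LinearMap.mulLeft R u).comp
      (Algebra.TensorProduct.includeRight (R := R) (A := R') (B := R')).toLinearMap)

lemma mem_sol {u : R' ⊗[R] R'} {m : R'} : m ∈ sol u ↔ m ⊗ₜ[R] (1 : R') = u * (1 ⊗ₜ m) := Iff.rfl

lemma one_mem_span [Module.Flat R R'] (u : (R' ⊗[R] R')ˣ)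
    (hu : p12 R R' u.1 * p23 R R' u.1 = p13 R R' u.1) :
    (1 : R') ∈ Ideal.span (sol u.1 : Set R') := by
  set f := (Algebra.TensorProduct.includeLeft (R := R) (S := R) (A := R') (B := R')).toLinearMap with hf
  set g := (LinearMap.mulLeft R u.1).comp
    (Algebra.TensorProduct.includeRight (R := R) (A := R') (B := R')).toLinearMap with hg
  have h1 := Module.Flat.eqLocus_lTensor_eq (R := R) R R' f g
  have h2 : (↑u⁻¹ : R' ⊗[R] R') ∈ LinearMap.eqLocus (AlgebraTensorModule.lTensor R R' f)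
      (AlgebraTensorModule.lTensor R R' g) := by
    have e1 : ∀ x : R' ⊗[R] R', AlgebraTensorModule.lTensor R R' f x = p12 R R' x := by
      intro x
      induction x using TensorProduct.induction_on with
      | zero => simp
      | add x y hx hy => simp only [map_add, hx, hy]
      | tmul a b => simp [hf, p12]
    have e2 : ∀ x : R' ⊗[R] R', AlgebraTensorModule.lTensor R R' g x = p23 R R' u.1 * p13 R R' x := by
      intro x
      induction x using TensorProduct.induction_on with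
      | zero => simp
      | add x y hx hy => simp only [map_add, hx, hy, mul_add]
      | tmul a b => simp [hg, p13, p23]
    change AlgebraTensorModule.lTensor R R' f _ = AlgebraTensorModule.lTensor R R' g _
    rw [e1, e2]
    have h3 : p12 R R' (↑u⁻¹ : R' ⊗[R] R') * p12 R R' u.1 = 1 := by
      rw [← map_mul, Units.inv_mul, map_one]
    have h4 : p13 R R' (↑u⁻¹ : R' ⊗[R] R') * p13 R R' u.1 = 1 := by
      rw [← map_mul, Units.inv_mul, map_one]
    calc p12 R R' (↑u⁻¹ : R' ⊗[R] R')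
        = p12 R R' (↑u⁻¹ : R' ⊗[R] R') * (p13 R R' (↑u⁻¹ : R' ⊗[R] R') * p13 R R' u.1) := by
          rw [h4, mul_one]
      _ = (p12 R R' (↑u⁻¹ : R' ⊗[R] R') * p12 R R' u.1) * p23 R R' u.1 *
            p13 R R' (↑u⁻¹ : R' ⊗[R] R') := by rw [← hu]; ring
      _ = _ := by rw [h3, one_mul]
  rw [h1] at h2
  obtain ⟨t, ht⟩ := h2
  have h5 : ∀ t : R' ⊗[R] (LinearMap.eqLocus f g),
      Algebra.TensorProduct.lmul' R
        (AlgebraTensorModule.lTensor R R' (LinearMap.eqLocus f g).subtype t) ∈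
        Ideal.span (sol u.1 : Set R') := by
    intro t
    induction t using TensorProduct.induction_on with
    | zero => simp
    | add x y hx hy =>
      rw [map_add, map_add]
      exact Ideal.add_mem _ hx hy
    | tmul a b =>
      have : Algebra.TensorProduct.lmul' R
        (AlgebraTensorModule.lTensor R R' (LinearMap.eqLocus f g).subtype (a ⊗ₜ b)) = a * b.1 := by
        simp
      rw [this]
      exact Ideal.mul_mem_left _ _ (Ideal.subset_span b.2)
  have h6 := h5 t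
  rw [ht] at h6
  have h7 : Algebra.TensorProduct.lmul' (S := R') R (↑u⁻¹ : R' ⊗[R] R') = 1 := by
    have := congrArg (Algebra.TensorProduct.lmul' (S := R') R) (Units.inv_mul u)
    rwa [map_mul, lmul_eq_one u hu, mul_one, map_one] at this
  rwa [h7] at h6

/-- **Hilbert 90, locally on the base.** -/
theorem exists_local [Module.FaithfullyFlat R R'] (u : (R' ⊗[R] R')ˣ)
    (hu : p12 R R' u.1 * p23 R R' u.1 = p13 R R' u.1) (P : Ideal R) [hP : P.IsPrime] :
    ∃ (r : R) (m m' : R'), r ∉ P ∧ m * m' = algebraMap R R' r ∧ m ⊗ₜ[R] (1 : R') = u.1 * (1 ⊗ₜ m) := by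
  have h1 := one_mem_span u hu
  have h2 : (1 : R') ∈ Ideal.span (sol (↑u⁻¹ : R' ⊗[R] R') : Set R') := by
    refine one_mem_span u⁻¹ ?_
    have h3 : ∀ φ : R' ⊗[R] R' →ₐ[R] R' ⊗[R] (R' ⊗[R] R'), φ (↑u⁻¹ : R' ⊗[R] R') * φ u.1 = 1 := by
      intro φ
      rw [← map_mul, Units.inv_mul, map_one]
    calc p12 R R' (↑u⁻¹ : R' ⊗[R] R') * p23 R R' (↑u⁻¹ : R' ⊗[R] R')
        = p12 R R' (↑u⁻¹ : R' ⊗[R] R') * p23 R R' (↑u⁻¹ : R' ⊗[R] R') *
          (p13 R R' (↑u⁻¹ : R' ⊗[R] R') * p13 R R' u.1) := by rw [h3, mul_one]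
      _ = (p12 R R' (↑u⁻¹ : R' ⊗[R] R') * p12 R R' u.1) * (p23 R R' (↑u⁻¹ : R' ⊗[R] R') *
          p23 R R' u.1) * p13 R R' (↑u⁻¹ : R' ⊗[R] R') := by rw [← hu]; ring
      _ = _ := by rw [h3, h3, one_mul, one_mul]
  by_contra hcon
  push Not at hcon
  -- products lie in the image of `P`
  have h3 : ∀ m ∈ sol u.1, ∀ m' ∈ sol (↑u⁻¹ : R' ⊗[R] R'), m * m' ∈ P.map (algebraMap R R') := by
    intro m hm m' hm'
    rw [mem_sol] at hm hm'
    have h4 : (m * m') ⊗ₜ[R] (1 : R') = 1 ⊗ₜ (m * m') := by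
      have h5 : (m * m') ⊗ₜ[R] (1 : R') = (m ⊗ₜ[R] (1 : R')) * (m' ⊗ₜ[R] (1 : R')) := by
        rw [Algebra.TensorProduct.tmul_mul_tmul, one_mul]
      have h6 : (1 : R') ⊗ₜ[R] (m * m') = (1 ⊗ₜ m) * (1 ⊗ₜ m') := by
        rw [Algebra.TensorProduct.tmul_mul_tmul, one_mul]
      rw [h5, hm, hm', h6]
      calc u.1 * (1 ⊗ₜ[R] m) * (↑u⁻¹ * (1 ⊗ₜ[R] m')) =
          (u.1 * ↑u⁻¹) * ((1 ⊗ₜ[R] m) * (1 ⊗ₜ[R] m')) := by ring
        _ = _ := by rw [Units.mul_inv, one_mul]
    obtain ⟨r, hr⟩ := mem_range h4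
    rw [← hr]
    refine Ideal.mem_map_of_mem _ ?_
    by_contra hrP
    exact hcon r m m' hrP hr.symm hm
  have h4 : (1 : R') ∈ P.map (algebraMap R R') := by
    have h5 : Ideal.span (sol u.1 : Set R') * Ideal.span (sol (↑u⁻¹ : R' ⊗[R] R') : Set R') ≤
        P.map (algebraMap R R') := by
      rw [Ideal.span_mul_span', Ideal.span_le]
      rintro x ⟨m, hm, m', hm', rfl⟩
      exact h3 m hm m' hm'
    have := h5 (Ideal.mul_mem_mul h1 h2)
    rwa [one_mul] at this
  have h5 : P = ⊤ := by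
    rw [← Ideal.comap_map_eq_self_of_faithfullyFlat (B := R') P, Ideal.eq_top_iff_one, Ideal.mem_comap, map_one]
    exact h4
  exact hP.ne_top h5

end Groth.Agent.Pic13.H964.K1
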