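import Groth.Agent.Pic13.H964.Shf
import Groth.Agent.Pic13.H948.CechUnits
import Groth.Agent.Pic13.H953.FinEt

/-!
# The étale-sheafified Picard functor is a sheaf for finite locally free covers

`isFlfSheaf` : for `f : X ⟶ S` with `H943.CF f` and `E : PicSh f`, `H955.FinDesc.IsFlfSheaf E.G`.
-/

set_option autoImplicit false
universe u

open CategoryTheory CategoryTheory.Limits AlgebraicGeometry Opposite

namespace Groth.Agent.Pic13.H964.ShfMain

open Groth.Agent.Ega3A.PicSheaf Groth.Agent.Pic13.H964.Shf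

variable {X S : Scheme.{u}} {f : X ⟶ S}

theorem f1a : F1a f := by
  intro E T T' g hg x
  obtain ⟨𝒰, -, h⟩ := H953.FinEt.exists_class g E x
  exact ⟨𝒰, h⟩

theorem f1b : F1b f := by
  intro T T' g hg c c' h
  obtain ⟨𝒰, -, h⟩ := H953.FinEt.exists_eq g c c' h
  exact ⟨𝒰, h⟩

theorem z1 (hf : H943.CF f) : Z1 f := by
  intro T T' g hg hgs z nat coc
  obtain ⟨𝒰, -, h⟩ := H948.CechUnits.Z1 hf g hg z (fun h a b e _ => nat h a b e) coc
  refine ⟨𝒰, fun i => ?_⟩
  obtain ⟨y, hy, hy'⟩ := h i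
  exact ⟨y, fun h v a e => hy h v a e _, hy'⟩

theorem z2 (hf : H943.CF f) : Z2 f := by
  intro T T' g hg hgs z nat coc
  obtain ⟨𝒰, -, h⟩ := H948.CechUnits.Z2 hf g hg z (fun h a b c e e' _ _ => nat h a b c e e') coc
  refine ⟨𝒰, fun i => ?_⟩
  obtain ⟨y, hy, hy'⟩ := h i
  exact ⟨y, fun h v a b e e' => hy h v a b e e' _ _, hy'⟩

/-- **(SHF)** -/
theorem isFlfSheaf (hf : H943.CF f) (E : PicSh f) : H955.FinDesc.IsFlfSheaf E.G :=
  Shf.isFlfSheaf f1a f1b (z1 hf) (z2 hf) E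

end Groth.Agent.Pic13.H964.ShfMain
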