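import Groth.Agent.Pic13.H602.Sim

/-!
# Multiplication of families by global units

`us w F` for `w : Γ(Y', ⊤)ˣ`, `F : Fam G L L'`, and its calculus.
-/

set_option autoImplicit false

universe u v

open CategoryTheory AlgebraicGeometry TopologicalSpace Opposite

namespace Groth.Agent.Pic13.H964.UnitFam

open Groth.Agent.Fdesc Groth.Agent.Fdesc.LocGen Groth.Agent.Picfga.LineHom
  Groth.Agent.Picfga.LineDescent Groth.Agent.Picfga.LineFam Groth.Agent.Pic13.H602.Rig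

variable {Y Y' Y'' : Scheme.{u}} {G G₁ : Y' ⟶ Y} {L : Y.Modules} {L' : Y'.Modules} {L'' : Y''.Modules}

/-- Pullback of global units. -/
noncomputable def upl (g : Y'' ⟶ Y') : Γ(Y', ⊤)ˣ →* Γ(Y'', ⊤)ˣ :=
  Units.map g.appTop.hom.toMonoidHom

lemma upl_val (g : Y'' ⟶ Y') (w : Γ(Y', ⊤)ˣ) : (upl g w : Γ(Y'', ⊤)) = g.appTop w.1 := rfl

/-- Multiplication by a unit. -/
noncomputable def us (w : Γ(Y', ⊤)ˣ) (F : Fam G L L') : Fam G L L' := Fam.smulUnit w.isUnit F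

lemma us_map (w : Γ(Y', ⊤)ˣ) (F : Fam G L L') {U : Y.Opens} (s : Γ(L, U)) :
    (us w F).map s = (ores (le_top : G ⁻¹ᵁ U ≤ ⊤) w.1 : Γ(Y', G ⁻¹ᵁ U)) • F.map s := rfl

@[simp] lemma us_one (F : Fam G L L') : us 1 F = F :=
  Fam.ext' fun U s => by rw [us_map, Units.val_one, map_one, one_smul]

lemma us_us (w w' : Γ(Y', ⊤)ˣ) (F : Fam G L L') : us w (us w' F) = us (w * w') F :=
  Fam.ext' fun U s => by rw [us_map, us_map, us_map, Units.val_mul, map_mul, smul_smul]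

lemma us_cast (h : G = G₁) (w : Γ(Y', ⊤)ˣ) (F : Fam G L L') : (us w F).cast h = us w (F.cast h) := by
  subst h
  rw [Fam.cast_rfl, Fam.cast_rfl]

lemma comp_us {G' : Y'' ⟶ Y'} (w : Γ(Y'', ⊤)ˣ) (F : Fam G L L') (K : Fam G' L' L'') :
    F.comp (us w K) = us w (F.comp K) := Fam.ext' fun _ _ => rfl

lemma us_comp {G' : Y'' ⟶ Y'} (w : Γ(Y', ⊤)ˣ) (F : Fam G L L') (K : Fam G' L' L'') :
    (us w F).comp K = us (upl G' w) (F.comp K) :=
  Fam.ext' fun U s => by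
    rw [Fam.comp_map, us_map, K.smul, us_map, Fam.comp_map, upl_val]
    congr 1
    exact app_ores G' le_top w.1

lemma us_injective (hL : PicF.IsInvertible L) (F : Fam G L L') {w w' : Γ(Y', ⊤)ˣ}
    (h : us w F = us w' F) : w = w' :=
  Units.ext (Fam.eq_of_smulUnit_eq hL F w.isUnit w'.isUnit h)

lemma us_left_cancel {w : Γ(Y', ⊤)ˣ} {F F' : Fam G L L'} (h : us w F = us w F') : F = F' := by
  have := congrArg (us w⁻¹) h
  rwa [us_us, us_us, inv_mul_cancel, us_one, us_one] at this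

lemma exists_us (hL : PicF.IsInvertible L) (F F' : Fam G L L') :
    ∃ w : Γ(Y', ⊤)ˣ, F' = us w F := by
  obtain ⟨w, hw, h⟩ := Fam.exists_unit hL F F'
  exact ⟨hw.unit, h⟩

lemma exists_us_sim (hL : PicF.IsInvertible L) (h : G = G₁) (F : Fam G L L') (F' : Fam G₁ L L') :
    ∃ w : Γ(Y', ⊤)ˣ, Sim F' (us w F) := by
  subst h
  obtain ⟨w, hw⟩ := exists_us hL F F'
  exact ⟨w, Sim.of_eq hw⟩

end Groth.Agent.Pic13.H964.UnitFam

namespace Groth.Agent.Pic13.H602.Rig.Sim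

open Groth.Agent.Picfga.LineFam Groth.Agent.Pic13.H964.UnitFam

variable {Y Y' : Scheme.{u}} {G G₁ : Y' ⟶ Y} {L : Y.Modules} {L' : Y'.Modules}

lemma us {F : Fam G L L'} {F' : Fam G₁ L L'} (h : Sim F F') (w : Γ(Y', ⊤)ˣ) :
    Sim (H964.UnitFam.us w F) (H964.UnitFam.us w F') := by
  obtain ⟨rfl, h⟩ := h
  rw [Fam.cast_rfl] at h
  subst h
  exact Sim.refl _

lemma us_eq (hL : PicF.IsInvertible L) {F : Fam G L L'} {F' : Fam G₁ L L'} {w w' : Γ(Y', ⊤)ˣ}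
    (h : Sim F F') (h' : Sim (H964.UnitFam.us w F) (H964.UnitFam.us w' F')) : w = w' := by
  obtain ⟨rfl, h⟩ := h
  rw [Fam.cast_rfl] at h
  subst h
  exact us_injective hL F h'.eq

end Groth.Agent.Pic13.H602.Rig.Sim
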